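import Mathlib
import Cfsg.Agent.H644.KGV.Defs
import Cfsg.Agent.H718.Gal
import Cfsg.Agent.H766.KGV.Unit
import Cfsg.Agent.H644.KGV.Goals
import Cfsg.Agent.S0145
import Cfsg.Agent.Characters.Ito
import Cfsg.Agent.Characters.AverageRoots
import Cfsg.Agent.Blocks.ExistsModular
import Cfsg.Agent.Blocks.LocalRing
import Cfsg.Agent.Blocks.Residue
set_option linter.all false

-- part: H774/KGV/Cyclic
section
/-!
# A congruence modulo a prime `l` for products of `l` sums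

`prod_sum_congr`: if `r x ^ l = 1` for all `x`, then
`∏ i < l, ∑ x, a x * r x ^ i ≡ ∑ x, a x ^ l` modulo `l` (`l` an odd prime).
The cyclic group of order `l` acts on the families `(x_i)`; the nonconstant families have sums over
the orbits divisible by `l`.
-/

set_option autoImplicit false

namespace Cfsg.Agent.H774.KGV

open Finset

/-- `z` is `l` times an algebraic integer. -/
def Dv (l : ℕ) (z : ℂ) : Prop := ∃ w, IsIntegral ℤ w ∧ z = (l : ℂ) * w

theorem Dv.zero (l : ℕ) : Dv l 0 := ⟨0, isIntegral_zero, by simp⟩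

theorem Dv.add {l : ℕ} {z z' : ℂ} (h : Dv l z) (h' : Dv l z') : Dv l (z + z') := by
  obtain ⟨w, hw, rfl⟩ := h
  obtain ⟨w', hw', rfl⟩ := h'
  exact ⟨w + w', hw.add hw', by ring⟩

theorem Dv.neg {l : ℕ} {z : ℂ} (h : Dv l z) : Dv l (-z) := by
  obtain ⟨w, hw, rfl⟩ := h
  exact ⟨-w, hw.neg, by ring⟩

theorem Dv.mul_left {l : ℕ} {z y : ℂ} (hy : IsIntegral ℤ y) (h : Dv l z) : Dv l (y * z) := by
  obtain ⟨w, hw, rfl⟩ := h
  exact ⟨y * w, hy.mul hw, by ring⟩

theorem Dv.sum {l : ℕ} {ι : Type*} {s : Finset ι} {f : ι → ℂ} (h : ∀ i ∈ s, Dv l (f i)) :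
    Dv l (∑ i ∈ s, f i) := by
  classical
  induction s using Finset.induction_on with
  | empty => simpa using Dv.zero l
  | insert a s ha ih =>
    rw [sum_insert ha]
    exact (h a (mem_insert_self a s)).add (ih fun i hi => h i (mem_insert_of_mem hi))

section Shift

variable {K : Type*} {l : ℕ}

/-- Shift of a family indexed by `ZMod l`. -/
def shift (k : ZMod l) (y : ZMod l → K) : ZMod l → K := fun i => y (i + k)

theorem shift_zero (y : ZMod l → K) : shift 0 y = y := by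
  funext i
  simp [shift]

theorem shift_shift (k k' : ZMod l) (y : ZMod l → K) : shift k (shift k' y) = shift (k + k') y := by
  funext i
  simp only [shift, add_assoc]

/-- The equivalence relation of having the same orbit under shifts. -/
def shiftSetoid (K : Type*) (l : ℕ) : Setoid (ZMod l → K) where
  r y z := ∃ k, z = shift k y
  iseqv :=
    { refl := fun y => ⟨0, (shift_zero y).symm⟩
      symm := fun {y z} ⟨k, hk⟩ => ⟨-k, by rw [hk, shift_shift, neg_add_cancel, shift_zero]⟩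
      trans := fun {x y z} ⟨k, hk⟩ ⟨k', hk'⟩ => ⟨k' + k, by rw [hk', hk, shift_shift]⟩ }

theorem const_of_shift [Fact l.Prime] {d : ZMod l} (hd : d ≠ 0) {y : ZMod l → K}
    (h : shift d y = y) (i : ZMod l) : y i = y 0 := by
  have h1 : ∀ n : ℕ, y ((n : ZMod l) * d) = y 0 := by
    intro n
    induction n with
    | zero => simp
    | succ n ih =>
      have h2 := congrFun h ((n : ZMod l) * d)
      rw [shift] at h2
      rw [← ih, ← h2]
      congr 1
      push_cast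
      ring
  have h2 := h1 (i / d).val
  rwa [ZMod.natCast_zmod_val, div_mul_cancel₀ _ hd] at h2

theorem shift_injective [Fact l.Prime] {y : ZMod l → K} (hy : ¬ ∀ i, y i = y 0) :
    Function.Injective (fun k : ZMod l => shift k y) := by
  intro k k' h
  by_contra hne
  refine hy (const_of_shift (sub_ne_zero.2 hne) ?_)
  funext i
  have h1 := congrFun h (i - k')
  simp only [shift] at h1 ⊢
  rw [sub_add_cancel] at h1
  rw [← h1]
  congr 1
  ring

/-- Only the constant families count modulo `l`. -/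
theorem dvd_sum_sub [Fact l.Prime] [Fintype K] (F : (ZMod l → K) → ℂ)
    (hF : ∀ y, Dv l (∑ k, F (shift k y))) :
    Dv l (∑ y, F y - ∑ x : K, F fun _ => x) := by
  classical
  let C : Finset (ZMod l → K) := univ.filter fun y => ∀ i, y i = y 0
  have h1 : ∑ y, F y = ∑ y ∈ C, F y + ∑ y ∈ univ.filter (fun y : ZMod l → K => ¬ ∀ i, y i = y 0),
      F y := (sum_filter_add_sum_filter_not univ _ F).symm
  have h2 : ∑ y ∈ C, F y = ∑ x : K, F fun _ => x := by
    symm
    refine sum_bij (fun x _ => fun _ => x) ?_ ?_ ?_ ?_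
    · intro x _
      simp [C]
    · intro x _ x' _ h
      exact congrFun h 0
    · intro y hy
      refine ⟨y 0, mem_univ _, ?_⟩
      funext i
      exact ((mem_filter.1 hy).2 i).symm
    · intro x _
      rfl
  rw [h1, h2, add_sub_cancel_left]
  rw [← sum_fiberwise_of_maps_to (g := fun y => (Quotient.mk (shiftSetoid K l) y))
    (t := (univ.filter (fun y : ZMod l → K => ¬ ∀ i, y i = y 0)).image
      fun y => (Quotient.mk (shiftSetoid K l) y)) (fun y hy => mem_image_of_mem _ hy)]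
  refine Dv.sum fun Q hQ => ?_
  obtain ⟨y, hy, rfl⟩ := mem_image.1 hQ
  have hy' : ¬ ∀ i, y i = y 0 := (mem_filter.1 hy).2
  have h3 : ((univ.filter (fun y : ZMod l → K => ¬ ∀ i, y i = y 0)).filter
      fun z => (Quotient.mk (shiftSetoid K l) z) = Quotient.mk (shiftSetoid K l) y) =
      univ.image fun k => shift k y := by
    ext z
    simp only [mem_filter, mem_univ, true_and, mem_image]
    constructor
    · rintro ⟨-, hz⟩
      obtain ⟨k, hk⟩ := Quotient.exact hz.symm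
      exact ⟨k, hk.symm⟩
    · rintro ⟨k, rfl⟩
      refine ⟨?_, ?_⟩
      · intro h
        apply hy'
        intro i
        have h4 : ∀ j, y j = y k := by
          intro j
          have := h (j - k)
          simpa [shift] using this
        rw [h4 i, h4 0]
      · exact (Quotient.sound (s := shiftSetoid K l) ⟨k, rfl⟩ : Quotient.mk _ y = _).symm
  rw [h3, sum_image fun k _ k' _ h => shift_injective hy' h]
  exact hF y

end Shift

theorem pow_val_add {l : ℕ} [NeZero l] {z : ℂ} (hz : z ^ l = 1) (i j : ZMod l) :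
    z ^ (i + j).val = z ^ i.val * z ^ j.val := by
  rw [ZMod.val_add, ← pow_add]
  exact (pow_eq_pow_mod _ hz).symm

theorem sum_pow_val {l : ℕ} [NeZero l] (z : ℂ) : ∑ j : ZMod l, z ^ j.val = ∑ i ∈ range l, z ^ i := by
  refine sum_bij (fun j _ => j.val) (fun j _ => mem_range.2 (ZMod.val_lt j)) ?_ ?_ ?_
  · intro i _ j _ h
    exact ZMod.val_injective l h
  · intro i hi
    exact ⟨(i : ZMod l), mem_univ _, ZMod.val_cast_of_lt (mem_range.1 hi)⟩
  · intro j _
    rfl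

theorem prod_pow_val {l : ℕ} [NeZero l] (f : ℕ → ℂ) :
    ∏ i ∈ range l, f i = ∏ j : ZMod l, f j.val := by
  symm
  refine prod_bij (fun j _ => j.val) (fun j _ => mem_range.2 (ZMod.val_lt j)) ?_ ?_ ?_
  · intro i _ j _ h
    exact ZMod.val_injective l h
  · intro i hi
    exact ⟨(i : ZMod l), mem_univ _, ZMod.val_cast_of_lt (mem_range.1 hi)⟩
  · intro j _
    rfl

/-- **The congruence.** -/
theorem prod_sum_congr {K : Type*} [Fintype K] (l : ℕ) (hl : l.Prime) (hl2 : l ≠ 2)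
    (a r : K → ℂ) (ha : ∀ x, IsIntegral ℤ (a x)) (hr : ∀ x, r x ^ l = 1) :
    Dv l (∏ i ∈ range l, ∑ x, a x * r x ^ i - ∑ x, a x ^ l) := by
  classical
  have : Fact l.Prime := ⟨hl⟩
  have hrint : ∀ x, IsIntegral ℤ (r x) := by
    intro x
    refine IsIntegral.of_pow hl.pos ?_
    rw [hr x]
    exact isIntegral_one
  let F : (ZMod l → K) → ℂ := fun y => ∏ i : ZMod l, a (y i) * r (y i) ^ i.val
  have hFint : ∀ y, IsIntegral ℤ (F y) := fun y =>
    IsIntegral.prod _ fun i _ => (ha _).mul ((hrint _).pow _)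
  have h1 : ∏ i ∈ range l, ∑ x, a x * r x ^ i = ∑ y, F y := by
    rw [prod_pow_val, prod_univ_sum, Fintype.piFinset_univ]
  have h2 : ∑ x : K, F (fun _ => x) = ∑ x, a x ^ l := by
    refine sum_congr rfl fun x _ => ?_
    show ∏ i : ZMod l, a x * r x ^ i.val = _
    rw [← prod_pow_val fun i => a x * r x ^ i, prod_mul_distrib, prod_const, card_range,
      prod_pow_eq_pow_sum, Finset.sum_range_id]
    have h3 : l * (l - 1) / 2 = l * ((l - 1) / 2) := by
      refine Nat.mul_div_assoc l ?_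
      have h4 := hl.eq_two_or_odd'
      have h5 : Odd l := h4.resolve_left hl2
      obtain ⟨m, hm⟩ := h5
      exact ⟨m, by omega⟩
    rw [h3, pow_mul, hr, one_pow, mul_one]
  rw [h1, ← h2]
  refine dvd_sum_sub F fun y => ?_
  have hc : (∏ i, r (y i)) ^ l = 1 := by
    rw [← prod_pow]
    exact prod_eq_one fun i _ => hr _
  have h3 : ∀ k : ZMod l, F (shift k y) = F y * (∏ i, r (y i)) ^ (-k).val := by
    intro k
    have h4 : F (shift k y) = ∏ i : ZMod l, a (y i) * r (y i) ^ (i + -k).val := by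
      show ∏ i : ZMod l, a (y (i + k)) * r (y (i + k)) ^ i.val = _
      refine Fintype.prod_equiv (Equiv.addRight k) _ _ fun i => ?_
      simp
    rw [h4, ← prod_pow, ← prod_mul_distrib]
    refine prod_congr rfl fun i _ => ?_
    rw [pow_val_add (hr _)]
    ring
  simp_rw [h3]
  rw [← mul_sum]
  refine Dv.mul_left (hFint y) ?_
  have h5 : ∑ k : ZMod l, (∏ i, r (y i)) ^ (-k).val = ∑ k : ZMod l, (∏ i, r (y i)) ^ k.val :=
    Fintype.sum_equiv (Equiv.neg (ZMod l)) _ _ fun k => rfl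
  rw [h5, sum_pow_val]
  by_cases hc1 : ∏ i, r (y i) = 1
  · rw [hc1]
    exact ⟨1, isIntegral_one, by simp⟩
  · have h6 : ∑ i ∈ range l, (∏ i, r (y i)) ^ i = 0 := by
      have h7 := mul_geom_sum (∏ i, r (y i)) l
      rw [hc, sub_self] at h7
      exact (mul_eq_zero.1 h7).resolve_left (sub_ne_zero.2 hc1)
    rw [h6]
    exact Dv.zero l

end Cfsg.Agent.H774.KGV
end

-- part: H774/KGV/Odd
section
/-!
# The Hasse-Davenport product formula for odd primes

`hdOdd : HDOddLocal → HDOdd`: from the local statement (the quotient `u` of both sides is integral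
at the places over `p`) to the formula: `u` is an algebraic integer, `u ≡ 1` modulo `l`, and all
conjugates of `(u - 1) / l` have absolute value `< 1`, so `u = 1`.
-/

set_option autoImplicit false

namespace Cfsg.Agent.H774.KGV

open Finset Cfsg.Agent.H644.KGV

/-- The local statement (task NT3a2) at the places over `p`. -/
def HDOddLocal : Prop := ∀ (K : Type) [Field K] [Fintype K] (χ ρ : MulChar K ℂ) (ψ : AddChar K ℂ)
  (ℓ : ℕ), ψ ≠ 1 → ℓ.Prime → ℓ ≠ 2 → orderOf ρ = ℓ →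
  ∀ M : Ideal (integralClosure ℤ ℂ), M.IsMaximal → ((ringChar K : ℕ) : integralClosure ℤ ℂ) ∈ M →
    ∃ x y : integralClosure ℤ ℂ, y ∉ M ∧
      (y : ℂ) * ∏ i ∈ range ℓ, gaussSum (χ * ρ ^ i) ψ =
        (x : ℂ) * (gaussSum (χ ^ ℓ) (ψ.mulShift (ℓ : K)) *
          (Fintype.card K : ℂ) ^ ((ℓ - 1) / 2))

section Basic

variable {K : Type*} [Field K] [Fintype K]

theorem mulChar_pow (χ : MulChar K ℂ) {x : K} (hx : x ≠ 0) : χ x ^ (Fintype.card K - 1) = 1 := by
  rw [← map_pow, FiniteField.pow_card_sub_one_eq_one x hx, map_one]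

omit [Fintype K] in
theorem addChar_pow (ψ : AddChar K ℂ) (x : K) : ψ x ^ ringChar K = 1 := by
  rw [← AddChar.map_nsmul_eq_pow, nsmul_eq_mul, ringChar.Nat.cast_ringChar, zero_mul,
    AddChar.map_zero_eq_one]

theorem ringChar_prime : (ringChar K).Prime := by
  obtain ⟨n, hp, -⟩ := FiniteField.card K (ringChar K)
  exact hp

theorem mulChar_isIntegral (χ : MulChar K ℂ) (x : K) : IsIntegral ℤ (χ x) := by
  by_cases hx : x = 0
  · rw [hx, MulChar.map_zero]
    exact isIntegral_zero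
  · refine IsIntegral.of_pow (Nat.sub_pos_of_lt (Fintype.one_lt_card (α := K))) ?_
    rw [mulChar_pow χ hx]
    exact isIntegral_one

theorem addChar_isIntegral (ψ : AddChar K ℂ) (x : K) : IsIntegral ℤ (ψ x) := by
  refine IsIntegral.of_pow (ringChar_prime (K := K)).pos ?_
  rw [addChar_pow ψ x]
  exact isIntegral_one

theorem gaussSum_isIntegral (χ : MulChar K ℂ) (ψ : AddChar K ℂ) : IsIntegral ℤ (gaussSum χ ψ) :=
  IsIntegral.sum _ fun x _ => (mulChar_isIntegral χ x).mul (addChar_isIntegral ψ x)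

theorem map_gaussSum (σ : ℂ →+* ℂ) (χ : MulChar K ℂ) (ψ : AddChar K ℂ) :
    σ (gaussSum χ ψ) = gaussSum (χ.ringHomComp σ) ((σ : ℂ →* ℂ).compAddChar ψ) := by
  unfold gaussSum
  rw [map_sum]
  refine Finset.sum_congr rfl (fun x _ => ?_)
  rw [map_mul]
  rfl

theorem norm_sq_gaussSum {χ : MulChar K ℂ} (hχ : χ ≠ 1) {ψ : AddChar K ℂ} (hψ : ψ ≠ 1) :
    ‖gaussSum χ ψ‖ ^ 2 = Fintype.card K := by
  have h1 := gaussSum_mul_gaussSum_eq_card hχ (AddChar.IsPrimitive.of_ne_one hψ)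
  rw [← star_gaussSum_eq] at h1
  have h2 : (gaussSum χ ψ) * star (gaussSum χ ψ) = ((‖gaussSum χ ψ‖ ^ 2 : ℝ) : ℂ) := by
    rw [← starRingEnd_apply, Complex.mul_conj, Complex.normSq_eq_norm_sq]
  rw [h2] at h1
  exact_mod_cast h1

theorem norm_sq_gaussSum_one {ψ : AddChar K ℂ} (hψ : ψ ≠ 1) :
    ‖gaussSum (1 : MulChar K ℂ) ψ‖ ^ 2 = 1 := by
  rw [gaussSum_one_left hψ]
  simp

theorem gaussSum_mem_Cyc {n : ℕ} (h1 : ringChar K ∣ n) (h2 : Fintype.card K - 1 ∣ n)
    (χ : MulChar K ℂ) (ψ : AddChar K ℂ) : gaussSum χ ψ ∈ H718.Cyc n := by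
  refine sum_mem fun x _ => mul_mem ?_ ?_
  · by_cases hx : x = 0
    · rw [hx, MulChar.map_zero]
      exact zero_mem _
    · apply H718.mem_Cyc_of_pow
      obtain ⟨k, rfl⟩ := h2
      rw [pow_mul, mulChar_pow χ hx, one_pow]
  · apply H718.mem_Cyc_of_pow
    obtain ⟨k, rfl⟩ := h1
    rw [pow_mul, addChar_pow ψ x, one_pow]

/-- The `l`-torsion of the group of multiplicative characters is cyclic. -/
theorem exists_eq_pow {l : ℕ} (hl : l.Prime) {χ ρ : MulChar K ℂ} (hρ : orderOf ρ = l)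
    (hχ : χ ^ l = 1) : ∃ j < l, χ = ρ ^ j := by
  obtain ⟨g, hg⟩ := IsCyclic.exists_generator (α := Kˣ)
  have h1 : IsPrimitiveRoot (ρ g) l := by
    constructor
    · rw [← MulChar.pow_apply_coe, ← hρ, pow_orderOf_eq_one, MulChar.one_apply_coe]
    · intro m hm
      rw [← hρ]
      apply orderOf_dvd_of_pow_eq_one
      rw [MulChar.eq_iff hg, MulChar.pow_apply_coe, hm, MulChar.one_apply_coe]
  have h2 : χ g ^ l = 1 := by
    rw [← MulChar.pow_apply_coe, hχ, MulChar.one_apply_coe]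
  have : NeZero l := ⟨hl.ne_zero⟩
  obtain ⟨j, hj, h3⟩ := h1.eq_pow_of_pow_eq_one h2
  exact ⟨j, hj, by rw [MulChar.eq_iff hg, MulChar.pow_apply_coe, h3]⟩

theorem norm_sq_prod {l : ℕ} (hl : l.Prime) (χ : MulChar K ℂ) {ρ : MulChar K ℂ}
    (hρ : orderOf ρ = l) {ψ ψ' : AddChar K ℂ} (hψ : ψ ≠ 1) (hψ' : ψ' ≠ 1) :
    ‖∏ i ∈ range l, gaussSum (χ * ρ ^ i) ψ‖ ^ 2 =
      ‖gaussSum (χ ^ l) ψ'‖ ^ 2 * (Fintype.card K : ℝ) ^ (l - 1) := by
  classical
  rw [norm_prod, ← prod_pow]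
  have hρl : ρ ^ l = 1 := hρ ▸ pow_orderOf_eq_one ρ
  by_cases hχ : χ ^ l = 1
  · obtain ⟨j, hj, h1⟩ := exists_eq_pow hl (χ := χ⁻¹) hρ (by rw [inv_pow, hχ, inv_one])
    rw [hχ, norm_sq_gaussSum_one hψ', one_mul, ← mul_prod_erase _ _ (mem_range.2 hj), ← h1,
      mul_inv_cancel, norm_sq_gaussSum_one hψ, one_mul]
    have h2 : ∀ i ∈ (range l).erase j, ‖gaussSum (χ * ρ ^ i) ψ‖ ^ 2 = Fintype.card K := by
      intro i hi
      rw [mem_erase, mem_range] at hi
      refine norm_sq_gaussSum (fun h => hi.1 ?_) hψ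
      have h3 : ρ ^ i = ρ ^ j := by
        rw [← h1]
        exact eq_inv_of_mul_eq_one_right h
      exact pow_injOn_Iio_orderOf (by simpa [hρ] using hi.2) (by simpa [hρ] using hj) h3
    rw [prod_congr rfl h2, prod_const, card_erase_of_mem (mem_range.2 hj), card_range]
  · have h2 : ∀ i ∈ range l, ‖gaussSum (χ * ρ ^ i) ψ‖ ^ 2 = Fintype.card K := by
      intro i _
      refine norm_sq_gaussSum (fun h => hχ ?_) hψ
      have h3 : (χ * ρ ^ i) ^ l = 1 := by rw [h, one_pow]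
      rwa [mul_pow, ← pow_mul, mul_comm i, pow_mul, hρl, one_pow, mul_one] at h3
    rw [prod_congr rfl h2, prod_const, card_range, norm_sq_gaussSum hχ hψ', ← pow_succ']
    congr 1
    have := hl.one_lt
    omega

end Basic

/-- A complex number that is integral at every maximal ideal is an algebraic integer. -/
theorem isIntegral_of_local {u : ℂ} (h : ∀ M : Ideal (integralClosure ℤ ℂ), M.IsMaximal →
    ∃ y : integralClosure ℤ ℂ, y ∉ M ∧ IsIntegral ℤ ((y : ℂ) * u)) : IsIntegral ℤ u := by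
  let I : Ideal (integralClosure ℤ ℂ) :=
    { carrier := {y | IsIntegral ℤ ((y : ℂ) * u)}
      zero_mem' := by simp [isIntegral_zero]
      add_mem' := by
        intro a b ha hb
        show IsIntegral ℤ (((a + b : integralClosure ℤ ℂ) : ℂ) * u)
        have : ((a + b : integralClosure ℤ ℂ) : ℂ) * u = a * u + b * u := by
          push_cast
          ring
        rw [this]
        exact IsIntegral.add ha hb
      smul_mem' := by
        intro c a ha
        show IsIntegral ℤ (((c • a : integralClosure ℤ ℂ) : ℂ) * u)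
        have : ((c • a : integralClosure ℤ ℂ) : ℂ) * u = (c : ℂ) * (a * u) := by
          rw [smul_eq_mul]
          push_cast
          ring
        rw [this]
        exact IsIntegral.mul c.2 ha }
  have hI : I = ⊤ := by
    by_contra hne
    obtain ⟨M, hM, hIM⟩ := Ideal.exists_le_maximal I hne
    obtain ⟨y, hy, hyu⟩ := h M hM
    exact hy (hIM hyu)
  have h1 : (1 : integralClosure ℤ ℂ) ∈ I := hI ▸ Submodule.mem_top
  have h2 : IsIntegral ℤ (((1 : integralClosure ℤ ℂ) : ℂ) * u) := h1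
  simpa using h2

/-- An algebraic number `v` with `m v` and `n v` integral, `m` and `n` coprime, is integral. -/
theorem isIntegral_of_coprime {m n : ℕ} (h : m.Coprime n) {v : ℂ}
    (hm : IsIntegral ℤ ((m : ℂ) * v)) (hn : IsIntegral ℤ ((n : ℂ) * v)) : IsIntegral ℤ v := by
  have h1 := Nat.gcd_eq_gcd_ab m n
  rw [h, Nat.cast_one] at h1
  have h2 : v = ((m.gcdA n : ℤ) : ℂ) * ((m : ℂ) * v) + ((m.gcdB n : ℤ) : ℂ) * ((n : ℂ) * v) := by
    have h3 : (1 : ℂ) = (m : ℂ) * ((m.gcdA n : ℤ) : ℂ) + (n : ℂ) * ((m.gcdB n : ℤ) : ℂ) := by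
      exact_mod_cast congrArg (Int.cast : ℤ → ℂ) h1
    calc v = 1 * v := (one_mul v).symm
      _ = _ := by
        rw [h3]
        ring
  rw [h2]
  exact ((isIntegral_algebraMap (R := ℤ) (x := m.gcdA n)).mul hm).add
    ((isIntegral_algebraMap (R := ℤ) (x := m.gcdB n)).mul hn)

/-- An algebraic integer in a cyclotomic field all of whose conjugates are `< 1` is zero. -/
theorem eq_zero_of_conj {n : ℕ} (hn : n ≠ 0) {v : ℂ} (hv : IsIntegral ℤ v) (hvn : v ∈ H718.Cyc n)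
    (h : ∀ σ : ℂ ≃+* ℂ, ‖σ v‖ < 1) : v = 0 := by
  by_contra hne
  obtain ⟨ι, _, _, σ, hσ⟩ := H718.exists_galois_avg n hn
  have h1 := hσ v hv hvn hne
  have h2 : ∑ i, ‖σ i v‖ ^ 2 < ∑ _i : ι, (1 : ℝ) := by
    refine sum_lt_sum_of_nonempty univ_nonempty fun i _ => ?_
    have := h (σ i)
    have h0 := norm_nonneg (σ i v)
    nlinarith
  rw [sum_const, card_univ, nsmul_eq_mul, mul_one] at h2
  linarith

section Main

variable {K : Type} [Field K] [Fintype K]

theorem exists_pow_norm (χ : MulChar K ℂ) {ψ : AddChar K ℂ} (hψ : ψ ≠ 1) (m : ℕ) :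
    ∃ n, (-gaussSum χ ψ * (Fintype.card K : ℂ) ^ m) *
      star (-gaussSum χ ψ * (Fintype.card K : ℂ) ^ m) = ((Fintype.card K : ℕ) : ℂ) ^ n := by
  have h1 : ∀ z : ℂ, z * star z = ((‖z‖ ^ 2 : ℝ) : ℂ) := fun z => by
    rw [← starRingEnd_apply, Complex.mul_conj, Complex.normSq_eq_norm_sq]
  rw [h1, norm_mul, norm_neg, mul_pow, norm_pow, Complex.norm_natCast, ← pow_mul]
  by_cases hχ : χ = 1
  · refine ⟨m * 2, ?_⟩
    rw [hχ, norm_sq_gaussSum_one hψ]
    push_cast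
    ring
  · refine ⟨m * 2 + 1, ?_⟩
    rw [norm_sq_gaussSum hχ hψ]
    push_cast
    ring

/-- The left hand side. -/
noncomputable def NN (l : ℕ) (χ ρ : MulChar K ℂ) (ψ : AddChar K ℂ) : ℂ :=
  ∏ i ∈ range l, (-gaussSum (χ * ρ ^ i) ψ)

/-- The right hand side. -/
noncomputable def DD (l : ℕ) (χ : MulChar K ℂ) (ψ : AddChar K ℂ) : ℂ :=
  -gaussSum (χ ^ l) (ψ.mulShift (l : K)) * (Fintype.card K : ℂ) ^ ((l - 1) / 2)

theorem map_NN (σ : ℂ →+* ℂ) (l : ℕ) (χ ρ : MulChar K ℂ) (ψ : AddChar K ℂ) :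
    σ (NN l χ ρ ψ) =
      NN l (χ.ringHomComp σ) (ρ.ringHomComp σ) ((σ : ℂ →* ℂ).compAddChar ψ) := by
  unfold NN
  rw [map_prod]
  refine prod_congr rfl fun i _ => ?_
  rw [map_neg, map_gaussSum, MulChar.ringHomComp_mul, MulChar.ringHomComp_pow]

theorem map_DD (σ : ℂ →+* ℂ) (l : ℕ) (χ : MulChar K ℂ) (ψ : AddChar K ℂ) :
    σ (DD l χ ψ) = DD l (χ.ringHomComp σ) ((σ : ℂ →* ℂ).compAddChar ψ) := by
  unfold DD
  rw [map_mul, map_neg, map_gaussSum, map_pow, map_natCast, MulChar.ringHomComp_pow]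
  rfl

theorem l_dvd {l : ℕ} {ρ : MulChar K ℂ} (hρ : orderOf ρ = l) : l ∣ Fintype.card K - 1 := by
  classical
  rw [← hρ, ← Fintype.card_units]
  exact orderOf_dvd_of_pow_eq_one ρ.pow_card_eq_one

theorem l_ne_zero {l : ℕ} (h : l ∣ Fintype.card K - 1) : (l : K) ≠ 0 := by
  intro h0
  have h1 : ringChar K ∣ l := (ringChar.spec K l).1 h0
  have h2 : ringChar K ∣ Fintype.card K := by
    rw [← ringChar.spec]
    exact Nat.cast_card_eq_zero K
  have h3 : ringChar K ∣ 1 := by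
    have h4 := (Nat.dvd_sub_iff_right (Fintype.card_pos (α := K)) h2).1 (h1.trans h)
    exact h4
  exact (ringChar_prime (K := K)).one_lt.ne' (Nat.dvd_one.1 h3)

omit [Fintype K] in
theorem mulShift_ne_one {ψ : AddChar K ℂ} (hψ : ψ ≠ 1) {a : K} (ha : a ≠ 0) :
    ψ.mulShift a ≠ 1 := AddChar.IsPrimitive.of_ne_one hψ ha

theorem norm_eq {l : ℕ} (hl : l.Prime) (hl2 : l ≠ 2) (χ : MulChar K ℂ) {ρ : MulChar K ℂ}
    (hρ : orderOf ρ = l) {ψ : AddChar K ℂ} (hψ : ψ ≠ 1) : ‖NN l χ ρ ψ‖ = ‖DD l χ ψ‖ := by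
  have h1 : ‖NN l χ ρ ψ‖ = ‖∏ i ∈ range l, gaussSum (χ * ρ ^ i) ψ‖ := by
    unfold NN
    simp only [norm_prod, norm_neg]
  have h2 : ‖NN l χ ρ ψ‖ ^ 2 = ‖DD l χ ψ‖ ^ 2 := by
    rw [h1, norm_sq_prod hl χ hρ hψ (mulShift_ne_one hψ (l_ne_zero (l_dvd hρ)))]
    unfold DD
    rw [norm_mul, norm_neg, mul_pow, norm_pow, Complex.norm_natCast, ← pow_mul]
    obtain ⟨m, hm⟩ := hl.eq_two_or_odd'.resolve_left hl2
    congr 2
    omega
  exact (sq_eq_sq₀ (norm_nonneg _) (norm_nonneg _)).1 h2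

theorem DD_ne_zero {l : ℕ} (h : l ∣ Fintype.card K - 1) (χ : MulChar K ℂ)
    {ψ : AddChar K ℂ} (hψ : ψ ≠ 1) : DD l χ ψ ≠ 0 := by
  obtain ⟨n, hn⟩ := exists_pow_norm (χ ^ l) (mulShift_ne_one hψ (l_ne_zero h)) ((l - 1) / 2)
  intro h0
  unfold DD at h0
  rw [h0, zero_mul] at hn
  have h1 : ((Fintype.card K : ℕ) : ℂ) ≠ 0 := Nat.cast_ne_zero.2 Fintype.card_ne_zero
  exact pow_ne_zero n h1 hn.symm

theorem DD_isIntegral (l : ℕ) (χ : MulChar K ℂ) (ψ : AddChar K ℂ) : IsIntegral ℤ (DD l χ ψ) :=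
  (gaussSum_isIntegral _ _).neg.mul ((isIntegral_algebraMap (R := ℤ) (x := Fintype.card K)).pow _)

theorem NN_isIntegral (l : ℕ) (χ ρ : MulChar K ℂ) (ψ : AddChar K ℂ) :
    IsIntegral ℤ (NN l χ ρ ψ) :=
  IsIntegral.prod _ fun _ _ => (gaussSum_isIntegral _ _).neg

/-- The congruence modulo `l`. -/
theorem congr_NN {l : ℕ} (hl : l.Prime) (hl2 : l ≠ 2) (χ : MulChar K ℂ) {ρ : MulChar K ℂ}
    (hρ : orderOf ρ = l) (ψ : AddChar K ℂ) : Dv l (NN l χ ρ ψ - DD l χ ψ) := by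
  classical
  obtain ⟨k, hk⟩ := hl.eq_two_or_odd'.resolve_left hl2
  have hρl : ρ ^ l = 1 := hρ ▸ pow_orderOf_eq_one ρ
  -- the right hand side
  have h1 : Dv l (-gaussSum (χ ^ l) (ψ.mulShift (l : K)) - DD l χ ψ) := by
    obtain ⟨t, ht⟩ := (Nat.modEq_iff_dvd' (Nat.one_le_iff_ne_zero.2
      (pow_ne_zero ((l - 1) / 2) (Fintype.card_ne_zero (α := K))))).1
      (show 1 ≡ Fintype.card K ^ ((l - 1) / 2) [MOD l] by
        have := (Nat.modEq_iff_dvd' (Fintype.card_pos (α := K))).2 (l_dvd hρ)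
        simpa using this.pow ((l - 1) / 2))
    have h2 : (Fintype.card K) ^ ((l - 1) / 2) = 1 + l * t := by
      have : 0 < (Fintype.card K) ^ ((l - 1) / 2) := pow_pos Fintype.card_pos _
      omega
    refine ⟨gaussSum (χ ^ l) (ψ.mulShift (l : K)) * t, (gaussSum_isIntegral _ _).mul
      (isIntegral_algebraMap (R := ℤ) (x := (t : ℤ))), ?_⟩
    unfold DD
    rw [show ((Fintype.card K : ℂ)) ^ ((l - 1) / 2) = 1 + l * t by exact_mod_cast h2]
    ring
  -- the left hand side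
  let a : K → ℂ := fun x => -(χ x * ψ x)
  let r : K → ℂ := fun x => if x = 0 then 1 else ρ x
  have ha : ∀ x, IsIntegral ℤ (a x) := fun x =>
    ((mulChar_isIntegral χ x).mul (addChar_isIntegral ψ x)).neg
  have hr : ∀ x, r x ^ l = 1 := by
    intro x
    by_cases hx : x = 0
    · simp [r, hx]
    · simp only [r, hx, if_false]
      rw [← MulChar.pow_apply' ρ hl.ne_zero, hρl, MulChar.one_apply (isUnit_iff_ne_zero.2 hx)]
  have h2 := prod_sum_congr l hl hl2 a r ha hr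
  have h3 : ∏ i ∈ range l, ∑ x, a x * r x ^ i = NN l χ ρ ψ := by
    refine prod_congr rfl fun i _ => ?_
    unfold gaussSum
    rw [← sum_neg_distrib]
    refine sum_congr rfl fun x _ => ?_
    by_cases hx : x = 0
    · subst hx
      simp only [a, MulChar.map_zero, zero_mul, neg_zero]
    · have h4 : (χ * ρ ^ i) x = χ x * ρ x ^ i := by
        rw [MulChar.mul_apply]
        congr 1
        exact MulChar.pow_apply_coe ρ i (Units.mk0 x hx)
      rw [h4]
      simp only [a, r, hx, if_false]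
      ring
  have h4 : ∑ x, a x ^ l = -gaussSum (χ ^ l) (ψ.mulShift (l : K)) := by
    unfold gaussSum
    rw [← sum_neg_distrib]
    refine sum_congr rfl fun x _ => ?_
    have h5 : ψ.mulShift (l : K) x = ψ x ^ l := by
      rw [AddChar.mulShift_apply, ← nsmul_eq_mul, AddChar.map_nsmul_eq_pow]
    rw [h5, MulChar.pow_apply' χ hl.ne_zero]
    simp only [a]
    rw [neg_pow, Odd.neg_one_pow ⟨k, hk⟩, mul_pow]
    ring
  rw [h3, h4] at h2
  have h5 := h2.add h1
  rwa [sub_add_sub_cancel] at h5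

/-- **The Hasse-Davenport product formula for odd primes.** -/
theorem hdOdd (h : HDOddLocal) : HDOdd := by
  intro K _ _ χ ρ ψ l hψ hl hl2 hρ
  show NN l χ ρ ψ = DD l χ ψ
  have hlq := l_dvd hρ
  have hl0 := l_ne_zero hlq
  have hψ' := mulShift_ne_one hψ hl0
  have hD := DD_ne_zero hlq χ hψ
  have hDint := DD_isIntegral l χ ψ
  have hNint := NN_isIntegral l χ ρ ψ
  have hq1 : 1 < Fintype.card K := Fintype.one_lt_card
  obtain ⟨n, hn⟩ := exists_pow_norm (χ ^ l) hψ' ((l - 1) / 2)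
  have hn' : DD l χ ψ * star (DD l χ ψ) = ((Fintype.card K : ℕ) : ℂ) ^ n := hn
  have hDs : IsIntegral ℤ (star (DD l χ ψ)) := by
    have := map_DD (starRingEnd ℂ) l χ ψ
    rw [starRingEnd_apply] at this
    rw [this]
    exact DD_isIntegral _ _ _
  -- the quotient
  set u : ℂ := NN l χ ρ ψ / DD l χ ψ with hu
  have hDu : DD l χ ψ * u = NN l χ ρ ψ := by
    rw [hu]
    field_simp
  -- `u` is an algebraic integer
  have huint : IsIntegral ℤ u := by
    refine isIntegral_of_local fun M hM => ?_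
    by_cases hp : ((ringChar K : ℕ) : integralClosure ℤ ℂ) ∈ M
    · obtain ⟨x, y, hy, hxy⟩ := h K χ ρ ψ l hψ hl hl2 hρ M hM hp
      refine ⟨y, hy, ?_⟩
      have h1 : (y : ℂ) * u = x := by
        apply mul_left_cancel₀ hD
        have h2 : NN l χ ρ ψ = -∏ i ∈ range l, gaussSum (χ * ρ ^ i) ψ := by
          unfold NN
          rw [prod_neg, card_range, (hl.eq_two_or_odd'.resolve_left hl2).neg_one_pow, neg_one_mul]
        calc DD l χ ψ * (y * u) = y * (DD l χ ψ * u) := by ring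
          _ = DD l χ ψ * x := by
            rw [hDu, h2, mul_neg, hxy]
            unfold DD
            ring
      rw [h1]
      exact x.2
    · obtain ⟨m, -, hm⟩ := FiniteField.card K (ringChar K)
      have hpM : ((ringChar K : ℕ) : integralClosure ℤ ℂ) ^ ((m : ℕ) * n) ∉ M := fun h1 =>
        hp (hM.isPrime.mem_of_pow_mem _ h1)
      refine ⟨_, hpM, ?_⟩
      have h1 : ((((ringChar K : ℕ) : integralClosure ℤ ℂ) ^ ((m : ℕ) * n) :
          integralClosure ℤ ℂ) : ℂ) * u = star (DD l χ ψ) * NN l χ ρ ψ := by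
        rw [← hDu, ← mul_assoc, mul_comm (star _), hn', hm]
        push_cast
        rw [pow_mul]
      rw [h1]
      exact hDs.mul hNint
  -- `v = (u - 1) / l` is an algebraic integer
  set v : ℂ := (u - 1) / l with hv
  have hlC : (l : ℂ) ≠ 0 := Nat.cast_ne_zero.2 hl.ne_zero
  have hlv : (l : ℂ) * v = u - 1 := by
    rw [hv]
    field_simp
  have hvint : IsIntegral ℤ v := by
    refine isIntegral_of_coprime (m := l) (n := Fintype.card K ^ n) ?_ ?_ ?_
    · refine Nat.Coprime.pow_right _ ?_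
      have h1 : Nat.Coprime (Fintype.card K - 1) (Fintype.card K) := by
        have h2 := (Nat.coprime_self_add_right (m := Fintype.card K - 1) (n := 1)).2
          (Nat.coprime_one_right _)
        rwa [Nat.sub_add_cancel hq1.le] at h2
      exact Nat.Coprime.coprime_dvd_left hlq h1
    · rw [hlv]
      exact huint.sub isIntegral_one
    · obtain ⟨w, hw, hw'⟩ := congr_NN hl hl2 χ hρ ψ
      have h1 : DD l χ ψ * v = w := by
        apply mul_left_cancel₀ hlC
        rw [← hw', ← hDu]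
        calc (l : ℂ) * (DD l χ ψ * v) = DD l χ ψ * (l * v) := by ring
          _ = _ := by
            rw [hlv]
            ring
      have h2 : ((Fintype.card K ^ n : ℕ) : ℂ) * v = star (DD l χ ψ) * w := by
        rw [← h1, ← mul_assoc, mul_comm (star _), hn']
        push_cast
        rfl
      rw [h2]
      exact hDs.mul hw
  -- `v` lies in a cyclotomic field
  have hvn : v ∈ H718.Cyc (ringChar K * (Fintype.card K - 1)) := by
    have hg : ∀ (χ : MulChar K ℂ) (ψ : AddChar K ℂ),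
        gaussSum χ ψ ∈ H718.Cyc (ringChar K * (Fintype.card K - 1)) := fun χ ψ =>
      gaussSum_mem_Cyc (dvd_mul_right _ _) (dvd_mul_left _ _) χ ψ
    have h1 : NN l χ ρ ψ ∈ H718.Cyc (ringChar K * (Fintype.card K - 1)) :=
      prod_mem fun i _ => neg_mem (hg _ _)
    have h2 : DD l χ ψ ∈ H718.Cyc (ringChar K * (Fintype.card K - 1)) :=
      mul_mem (neg_mem (hg _ _)) (pow_mem (natCast_mem _ _) _)
    exact div_mem (sub_mem (div_mem h1 h2) (one_mem _)) (natCast_mem _ _)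
  -- all conjugates of `u` have absolute value `1`
  have hconj : ∀ σ : ℂ ≃+* ℂ, ‖σ v‖ < 1 := by
    intro σ
    have h1 : ‖σ u‖ = 1 := by
      have h2 : σ u = (σ : ℂ →+* ℂ) (NN l χ ρ ψ) / (σ : ℂ →+* ℂ) (DD l χ ψ) := by
        rw [hu, map_div₀]
        rfl
      rw [h2, map_NN, map_DD, norm_div]
      have h3 : orderOf (ρ.ringHomComp (σ : ℂ →+* ℂ)) = l := by
        have : Fact l.Prime := ⟨hl⟩
        refine orderOf_eq_prime ?_ ?_
        · have h5 := MulChar.ringHomComp_pow ρ (σ : ℂ →+* ℂ) l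
          have h6 : ρ ^ l = 1 := hρ ▸ pow_orderOf_eq_one ρ
          rw [h5, h6, MulChar.ringHomComp_one]
        · rw [MulChar.ringHomComp_ne_one_iff (RingHom.injective _)]
          intro h4
          rw [h4, orderOf_one] at hρ
          exact hl.one_lt.ne hρ
      have h4 : ((σ : ℂ →+* ℂ) : ℂ →* ℂ).compAddChar ψ ≠ 1 := by
        intro h5
        apply hψ
        ext x
        have h6 := DFunLike.congr_fun h5 x
        have h7 : σ (ψ x) = 1 := h6
        rw [← map_one σ] at h7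
        exact σ.injective h7
      rw [norm_eq hl hl2 _ h3 h4]
      refine div_self (norm_ne_zero_iff.2 (DD_ne_zero hlq _ h4))
    have h2 : σ v = (σ u - 1) / l := by
      rw [hv, map_div₀, map_sub, map_one, map_natCast]
    rw [h2, norm_div, Complex.norm_natCast, div_lt_one (Nat.cast_pos.2 hl.pos)]
    have h3 : ‖σ u - 1‖ ≤ 2 := by
      refine (norm_sub_le _ _).trans ?_
      rw [h1, norm_one]
      norm_num
    have h4 : (2 : ℝ) < l := by
      have : 2 < l := lt_of_le_of_ne hl.two_le (Ne.symm hl2)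
      exact_mod_cast this
    linarith
  have hv0 := eq_zero_of_conj (mul_ne_zero (ringChar_prime (K := K)).ne_zero
    (Nat.sub_pos_of_lt hq1).ne') hvint hvn hconj
  rw [hv0, mul_zero] at hlv
  rw [← hDu, sub_eq_zero.1 hlv.symm, mul_one]

end Main

end Cfsg.Agent.H774.KGV
end

-- part: H774/KGV/OddMain
section
/-!
# The Hasse-Davenport product formula for odd primes from Stickelberger's theorem
-/

set_option autoImplicit false

namespace Cfsg.Agent.H774.KGV

open Finset Cfsg Cfsg.Agent.H644.KGV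

theorem hdOddLocal (hS : H766.KGV.StickLight) : HDOddLocal := by
  intro K _ _ χ ρ ψ l hψ hl hl2 hρ M hM hp
  have hK : CharP K (ringChar K) := ringChar.charP K
  obtain ⟨x, y, -, hy, h⟩ := H766.KGV.nt3a2 (p := ringChar K) (M := M) hS
    ⟨ringChar_prime, hM, hp⟩ (K := K) (χ := χ) (ρ := ρ) (ψ := ψ) hψ hl hl2 hρ
  exact ⟨x, y, hy, h⟩

/-- **Hasse-Davenport** for odd primes, from Stickelberger's theorem. -/
theorem hdOdd_of_stickLight (hS : H766.KGV.StickLight) : HDOdd := hdOdd (hdOddLocal hS)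

end Cfsg.Agent.H774.KGV
end

-- part: H577/KGV/NormGen
section
/-!
# Norm compatible primitive elements of the finite fields (KGV, NT6a): the definition (helper577)
-/

set_option autoImplicit false

namespace Cfsg.Agent.H577.KGV

/-- `γ f` is a primitive element of the field with `p ^ f` elements, `γ f` is the norm of
`γ (f * m)`. -/
structure NormGen (p : ℕ) [Fact p.Prime] (γ : ℕ → AlgebraicClosure (ZMod p)) : Prop where
  ord : ∀ f, 1 ≤ f → orderOf (γ f) = p ^ f - 1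
  comp : ∀ f m, 1 ≤ f → 1 ≤ m → γ (f * m) ^ ((p ^ (f * m) - 1) / (p ^ f - 1)) = γ f

end Cfsg.Agent.H577.KGV
end

-- part: H577/KGV/Fields
section
/-!
# The finite fields inside `AlgebraicClosure (ZMod p)` and their characters (KGV, NT6a; helper577)

* `KF p f` : the elements with `x ^ (p ^ f) = x`; `card_KF`, `KF_le`, `finite_KF`;
* `gK hγ hf` : the primitive element `γ f` of `KF p f`, `gU` the same as a unit, `mem_zpowers_gU`, `exists_pow`;
* `om hγ hf z` : the multiplicative character `γ_f ^ j ↦ z ^ j`; `om_pow`, `om_mul`, `om_one`, `exists_om`;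
* `psi p f a` : `x ↦ exp (2 π i a Tr x / p)`; `TT hγ f j = Tr (γ_f ^ j)`; `PG_eq : PG p T f a z = - gaussSum`.
-/

set_option autoImplicit false

namespace Cfsg.Agent.H577.KGV

open Finset Polynomial Cfsg.Agent.H644.KGV

variable (p : ℕ) [Fact p.Prime]

/-! ### The fields -/

/-- The subfield with `p ^ f` elements. -/
def KF (f : ℕ) : IntermediateField (ZMod p) (AlgebraicClosure (ZMod p)) where
  carrier := {x | x ^ p ^ f = x}
  mul_mem' := by
    intro a b ha hb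
    rw [Set.mem_ofPred_eq] at ha hb ⊢
    rw [mul_pow, ha, hb]
  one_mem' := one_pow _
  add_mem' := by
    intro a b ha hb
    rw [Set.mem_ofPred_eq] at ha hb ⊢
    rw [add_pow_char_pow, ha, hb]
  zero_mem' := by
    rw [Set.mem_ofPred_eq, zero_pow (pow_ne_zero _ (Fact.out : p.Prime).ne_zero)]
  algebraMap_mem' := by
    intro x
    rw [Set.mem_ofPred_eq, ← map_pow, ZMod.pow_card_pow]
  inv_mem' := by
    intro a ha
    change a ^ p ^ f = a at ha
    change a⁻¹ ^ p ^ f = a⁻¹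
    rw [inv_pow, ha]

theorem mem_KF {f : ℕ} {x : AlgebraicClosure (ZMod p)} : x ∈ KF p f ↔ x ^ p ^ f = x := Iff.rfl

theorem card_KF {f : ℕ} (hf : 1 ≤ f) : Nat.card (KF p f) = p ^ f := by
  have h1 : (KF p f : Set (AlgebraicClosure (ZMod p))) =
      (X ^ p ^ f - X : (AlgebraicClosure (ZMod p))[X]).rootSet (AlgebraicClosure (ZMod p)) := by
    ext x
    rw [mem_rootSet]
    simp only [aeval_def, eval₂_sub, eval₂_X_pow, eval₂_X, sub_eq_zero]
    constructor
    · intro h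
      exact ⟨FiniteField.X_pow_card_pow_sub_X_ne_zero _ (by omega) (Fact.out : p.Prime).one_lt, h⟩
    · intro h
      exact h.2
  have h2 : Nat.card (KF p f) = Fintype.card
      ((X ^ p ^ f - X : (AlgebraicClosure (ZMod p))[X]).rootSet (AlgebraicClosure (ZMod p))) := by
    rw [← Nat.card_eq_fintype_card]
    exact Nat.card_congr (Equiv.setCongr h1)
  rw [h2, card_rootSet_eq_natDegree (galois_poly_separable p _ (dvd_pow_self p (by omega)))
    (IsAlgClosed.splits _),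
    FiniteField.X_pow_card_pow_sub_X_natDegree_eq _ (by omega) (Fact.out : p.Prime).one_lt]

theorem finite_KF {f : ℕ} (hf : 1 ≤ f) : Finite (KF p f) := by
  apply Nat.finite_of_card_ne_zero
  rw [card_KF p hf]
  exact pow_ne_zero _ (Fact.out : p.Prime).ne_zero

theorem KF_le {f g : ℕ} (h : f ∣ g) : KF p f ≤ KF p g := by
  obtain ⟨m, rfl⟩ := h
  intro x hx
  rw [mem_KF] at hx ⊢
  induction m with
  | zero => rw [mul_zero, pow_zero, pow_one]
  | succ m ih => rw [mul_add, mul_one, pow_add, pow_mul, ih, hx]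

theorem finrank_KF {f : ℕ} (hf : 1 ≤ f) : Module.finrank (ZMod p) (KF p f) = f := by
  have := finite_KF p hf
  have h1 := Module.natCard_eq_pow_finrank (K := ZMod p) (V := KF p f)
  rw [card_KF p hf, Nat.card_zmod] at h1
  exact (Nat.pow_right_injective (Fact.out : p.Prime).two_le h1).symm

variable {p}

/-! ### The generators -/

section gen

variable {γ : ℕ → AlgebraicClosure (ZMod p)} (hγ : NormGen p γ) {f : ℕ} (hf : 1 ≤ f)

theorem one_lt_q (p : ℕ) [Fact p.Prime] {f : ℕ} (hf : 1 ≤ f) : 1 < p ^ f :=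
  Nat.one_lt_pow (by omega) (Fact.out : p.Prime).one_lt

include hγ hf in
theorem gamma_pow : γ f ^ (p ^ f - 1) = 1 := by
  rw [← hγ.ord f hf, pow_orderOf_eq_one]

include hγ hf in
theorem gamma_mem : γ f ∈ KF p f := by
  rw [mem_KF]
  have h1 : p ^ f = (p ^ f - 1) + 1 := (Nat.sub_add_cancel (one_lt_q p hf).le).symm
  rw [h1, pow_succ, gamma_pow hγ hf, one_mul]

include hγ hf in
theorem gamma_ne_zero : γ f ≠ 0 := by
  intro h
  have h1 := gamma_pow hγ hf
  rw [h, zero_pow (Nat.sub_ne_zero_of_lt (one_lt_q p hf))] at h1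
  exact zero_ne_one h1

/-- The primitive element of `KF p f`. -/
def gK : KF p f := ⟨γ f, gamma_mem hγ hf⟩

theorem gK_coe : (gK hγ hf : AlgebraicClosure (ZMod p)) = γ f := rfl

theorem gK_ne_zero : gK hγ hf ≠ 0 := fun h => gamma_ne_zero hγ hf (congrArg Subtype.val h)

theorem gK_pow : gK hγ hf ^ (p ^ f - 1) = 1 := Subtype.ext (gamma_pow hγ hf)

theorem orderOf_gK : orderOf (gK hγ hf) = p ^ f - 1 := by
  rw [← hγ.ord f hf, ← gK_coe hγ hf]
  exact (orderOf_injective (KF p f).val.toRingHom.toMonoidHom (KF p f).val.injective (gK hγ hf)).symm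

/-- The primitive element as a unit. -/
noncomputable def gU : (KF p f)ˣ := Units.mk0 (gK hγ hf) (gK_ne_zero hγ hf)

theorem gU_coe : (gU hγ hf : KF p f) = gK hγ hf := rfl

theorem orderOf_gU : orderOf (gU hγ hf) = p ^ f - 1 := by
  rw [← orderOf_gK hγ hf, ← gU_coe, orderOf_units]

theorem mem_zpowers_gU (x : (KF p f)ˣ) : x ∈ Subgroup.zpowers (gU hγ hf) := by
  have := finite_KF p hf
  have := Fintype.ofFinite (KF p f)
  have h1 : Nat.card (KF p f)ˣ = p ^ f - 1 := by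
    rw [Nat.card_units, card_KF p hf]
  have h2 : Subgroup.zpowers (gU hγ hf) = ⊤ := by
    apply Subgroup.eq_top_of_card_eq
    rw [Nat.card_zpowers, orderOf_gU, h1]
  rw [h2]
  exact Subgroup.mem_top x

/-- Every nonzero element is a power of the primitive element. -/
theorem exists_pow {x : KF p f} (hx : x ≠ 0) : ∃ j < p ^ f - 1, gK hγ hf ^ j = x := by
  classical
  have := finite_KF p hf
  have h1 := mem_zpowers_gU hγ hf (Units.mk0 x hx)
  rw [mem_zpowers_iff_mem_range_orderOf] at h1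
  obtain ⟨j, hj, hjx⟩ := Finset.mem_image.1 h1
  rw [orderOf_gU, Finset.mem_range] at hj
  exact ⟨j, hj, congrArg Units.val hjx⟩

/-! ### Multiplicative characters -/

open Classical in
/-- The multiplicative character `γ_f ^ j ↦ z ^ j` (`1` if `z` is not a root of unity of the right order). -/
noncomputable def om (z : ℂ) : MulChar (KF p f) ℂ :=
  if hz : z ^ (p ^ f - 1) = 1 then
    MulChar.ofUnitHom (monoidHomOfForallMemZpowers (mem_zpowers_gU hγ hf)
      (g' := Units.mk0 z (by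
        rintro rfl
        rw [zero_pow (Nat.sub_ne_zero_of_lt (one_lt_q p hf))] at hz
        exact zero_ne_one hz)) (by
        rw [orderOf_gU]
        apply orderOf_dvd_of_pow_eq_one
        exact Units.ext hz))
  else 1

theorem om_gK {z : ℂ} (hz : z ^ (p ^ f - 1) = 1) : om hγ hf z (gK hγ hf) = z := by
  rw [om, dif_pos hz, ← gU_coe, MulChar.ofUnitHom_coe, monoidHomOfForallMemZpowers_apply_gen]
  rfl

theorem om_gK_pow {z : ℂ} (hz : z ^ (p ^ f - 1) = 1) (j : ℕ) : om hγ hf z (gK hγ hf ^ j) = z ^ j := by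
  rw [map_pow, om_gK hγ hf hz]

/-- Characters which agree at the primitive element are equal. -/
theorem char_ext {χ χ' : MulChar (KF p f) ℂ} (h : χ (gK hγ hf) = χ' (gK hγ hf)) : χ = χ' := by
  apply MulChar.ext
  intro u
  obtain ⟨j, -, hj⟩ := exists_pow hγ hf u.ne_zero
  rw [← hj, map_pow, map_pow, h]

theorem char_gK_pow (χ : MulChar (KF p f) ℂ) : χ (gK hγ hf) ^ (p ^ f - 1) = 1 := by
  rw [← map_pow, gK_pow, map_one]

/-- Every character is of the form `om z`. -/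
theorem om_char (χ : MulChar (KF p f) ℂ) : om hγ hf (χ (gK hγ hf)) = χ :=
  char_ext hγ hf (om_gK hγ hf (char_gK_pow hγ hf χ))

theorem om_one : om hγ hf (1 : ℂ) = 1 := by
  apply char_ext hγ hf
  rw [om_gK hγ hf (one_pow _), ← gU_coe hγ hf, MulChar.one_apply_coe]

theorem om_mul {z w : ℂ} (hz : z ^ (p ^ f - 1) = 1) (hw : w ^ (p ^ f - 1) = 1) :
    om hγ hf (z * w) = om hγ hf z * om hγ hf w := by
  apply char_ext hγ hf
  rw [MulChar.mul_apply, om_gK hγ hf hz, om_gK hγ hf hw, om_gK hγ hf (by rw [mul_pow, hz, hw, one_mul])]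

theorem om_pow {z : ℂ} (hz : z ^ (p ^ f - 1) = 1) (n : ℕ) : om hγ hf (z ^ n) = om hγ hf z ^ n := by
  apply char_ext hγ hf
  rw [om_gK hγ hf (by rw [← pow_mul, mul_comm, pow_mul, hz, one_pow]), ← gU_coe hγ hf,
    MulChar.pow_apply_coe, gU_coe, om_gK hγ hf hz]

theorem om_inj {z w : ℂ} (hz : z ^ (p ^ f - 1) = 1) (hw : w ^ (p ^ f - 1) = 1) :
    om hγ hf z = om hγ hf w ↔ z = w := by
  constructor
  · intro h
    rw [← om_gK hγ hf hz, h, om_gK hγ hf hw]
  · rintro rfl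
    rfl

theorem om_eq_one_iff {z : ℂ} (hz : z ^ (p ^ f - 1) = 1) : om hγ hf z = 1 ↔ z = 1 := by
  rw [← om_one hγ hf, om_inj hγ hf hz (one_pow _)]

theorem orderOf_om {z : ℂ} (hz : z ^ (p ^ f - 1) = 1) : orderOf (om hγ hf z) = orderOf z := by
  apply orderOf_eq_orderOf_iff.2
  intro n
  rw [← om_pow hγ hf hz, om_eq_one_iff]
  rw [← pow_mul, mul_comm, pow_mul, hz, one_pow]

end gen

/-! ### Additive characters -/

section add

variable (p)

/-- The additive character `x ↦ exp (2 π i a Tr x / p)`. -/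
noncomputable def psi (f : ℕ) (a : ZMod p) : AddChar (KF p f) ℂ :=
  addTrace (KF p f) ((ZMod.stdAddChar (N := p)).mulShift a)

theorem psi_apply (f : ℕ) (a : ZMod p) (x : KF p f) :
    psi p f a x = ZMod.stdAddChar (a * Algebra.trace (ZMod p) (KF p f) x) := rfl

theorem exists_trace {f : ℕ} (hf : 1 ≤ f) (c : ZMod p) :
    ∃ x : KF p f, Algebra.trace (ZMod p) (KF p f) x = c := by
  have := finite_KF p hf
  exact Algebra.trace_surjective (ZMod p) (KF p f) c

theorem psi_ne_one {f : ℕ} (hf : 1 ≤ f) {a : ZMod p} (ha : a ≠ 0) : psi p f a ≠ 1 := by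
  intro h
  obtain ⟨x, hx⟩ := exists_trace p hf a⁻¹
  have h1 := DFunLike.congr_fun h x
  rw [psi_apply, hx, mul_inv_cancel₀ ha, AddChar.one_apply] at h1
  have h2 : (1 : ZMod p) = 0 := ZMod.injective_stdAddChar (by rw [h1, AddChar.map_zero_eq_one])
  exact one_ne_zero h2

theorem psi_primitive {f : ℕ} (hf : 1 ≤ f) {a : ZMod p} (ha : a ≠ 0) : (psi p f a).IsPrimitive :=
  AddChar.IsPrimitive.of_ne_one (psi_ne_one p hf ha)

theorem psi_mulShift (f : ℕ) (a : ZMod p) (n : ℕ) :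
    (psi p f a).mulShift (n : KF p f) = psi p f ((n : ZMod p) * a) := by
  ext x
  rw [AddChar.mulShift_apply, psi_apply, psi_apply]
  have h1 : (n : KF p f) * x = (n : ZMod p) • x := by
    rw [Algebra.smul_def, map_natCast]
  rw [h1, map_smul, smul_eq_mul]
  ring_nf

theorem psi_inv (f : ℕ) (a : ZMod p) : (psi p f a)⁻¹ = psi p f (-a) := by
  ext x
  rw [AddChar.inv_apply, psi_apply, psi_apply, map_neg]
  ring_nf

end add

/-! ### The trace function and the dictionary -/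

section dict

variable {γ : ℕ → AlgebraicClosure (ZMod p)} (hγ : NormGen p γ)

/-- `T f j = Tr (γ_f ^ j)`. -/
noncomputable def TT (f j : ℕ) : ZMod p :=
  if h : 1 ≤ f then Algebra.trace (ZMod p) (KF p f) (gK hγ h ^ j) else 0

theorem TT_eq {f : ℕ} (hf : 1 ≤ f) (j : ℕ) :
    TT hγ f j = Algebra.trace (ZMod p) (KF p f) (gK hγ hf ^ j) := dif_pos hf

/-- A sum over the nonzero elements. -/
theorem sum_ne_zero {f : ℕ} (hf : 1 ≤ f) [Fintype (KF p f)] (g : KF p f → ℂ) (h0 : g 0 = 0) :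
    ∑ x, g x = ∑ j ∈ range (p ^ f - 1), g (gK hγ hf ^ j) := by
  classical
  have h1 : ∑ x, g x = ∑ x ∈ (univ : Finset (KF p f)).erase 0, g x := by
    rw [← Finset.add_sum_erase univ g (mem_univ 0), h0, zero_add]
  rw [h1]
  symm
  refine Finset.sum_bij (fun j _ => gK hγ hf ^ j) ?_ ?_ ?_ ?_
  · intro j _
    rw [Finset.mem_erase]
    exact ⟨pow_ne_zero _ (gK_ne_zero hγ hf), mem_univ _⟩
  · intro i hi j hj hij
    rw [Finset.mem_range] at hi hj
    refine pow_injOn_Iio_orderOf (x := gK hγ hf) ?_ ?_ hij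
    · rw [Set.mem_Iio, orderOf_gK]; exact hi
    · rw [Set.mem_Iio, orderOf_gK]; exact hj
  · intro x hx
    rw [Finset.mem_erase] at hx
    obtain ⟨j, hj, hjx⟩ := exists_pow hγ hf hx.1
    exact ⟨j, Finset.mem_range.2 hj, hjx⟩
  · intro j _
    rfl

/-- **The dictionary.** -/
theorem PG_eq {f : ℕ} (hf : 1 ≤ f) [Fintype (KF p f)] (a : ZMod p) {z : ℂ} (hz : z ^ (p ^ f - 1) = 1) :
    PG p (TT hγ) f a z = -gaussSum (om hγ hf z) (psi p f a) := by
  rw [PG, gaussSum, sum_ne_zero hγ hf _ (by rw [MulChar.map_zero, zero_mul])]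
  congr 1
  refine Finset.sum_congr rfl fun j _ => ?_
  rw [om_gK_pow hγ hf hz, psi_apply, TT_eq hγ hf, mul_comm]

theorem card_KF' {f : ℕ} (hf : 1 ≤ f) [Fintype (KF p f)] : Fintype.card (KF p f) = p ^ f := by
  rw [← Nat.card_eq_fintype_card, card_KF p hf]

/-! ### Easy fields of `GaussSys` -/

theorem per (f j : ℕ) (hf : 1 ≤ f) : TT hγ f (j + (p ^ f - 1)) = TT hγ f j := by
  rw [TT_eq hγ hf, TT_eq hγ hf, pow_add, gK_pow, mul_one]

theorem trace_pow_p {f : ℕ} (hf : 1 ≤ f) (x : KF p f) :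
    Algebra.trace (ZMod p) (KF p f) (x ^ p) = Algebra.trace (ZMod p) (KF p f) x := by
  have := finite_KF p hf
  have h1 := Algebra.trace_eq_of_algEquiv (A := ZMod p)
    (FiniteField.frobeniusAlgEquivOfAlgebraic (ZMod p) (KF p f)) x
  rw [← h1]
  congr 1
  rw [FiniteField.coe_frobeniusAlgEquivOfAlgebraic, ZMod.card]

theorem frob (f j : ℕ) (hf : 1 ≤ f) : TT hγ f (p * j) = TT hγ f j := by
  rw [TT_eq hγ hf, TT_eq hγ hf, mul_comm, pow_mul, trace_pow_p hf]

theorem one (f : ℕ) (a : ZMod p) (hf : 1 ≤ f) (ha : a ≠ 0) : PG p (TT hγ) f a 1 = 1 := by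
  have := finite_KF p hf
  have := Fintype.ofFinite (KF p f)
  rw [PG_eq hγ hf a (one_pow _), om_one, gaussSum_one_left (psi_ne_one p hf ha), neg_neg]

theorem norm (f : ℕ) (a : ZMod p) (z : ℂ) (hf : 1 ≤ f) (ha : a ≠ 0) (hz : z ^ (p ^ f - 1) = 1)
    (hz1 : z ≠ 1) : ‖PG p (TT hγ) f a z‖ ^ 2 = (p : ℝ) ^ f := by
  have := finite_KF p hf
  have := Fintype.ofFinite (KF p f)
  have h1 : om hγ hf z ≠ 1 := fun h => hz1 ((om_eq_one_iff hγ hf hz).1 h)
  have h2 := gaussSum_mul_gaussSum_eq_card h1 (psi_primitive p hf ha)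
  rw [← star_gaussSum_eq, card_KF' hf] at h2
  have h3 : ((‖gaussSum (om hγ hf z) (psi p f a)‖ ^ 2 : ℝ) : ℂ) = ((p : ℝ) ^ f : ℝ) := by
    rw [← Complex.normSq_eq_norm_sq, ← Complex.mul_conj]
    push_cast
    push_cast at h2
    exact h2
  rw [PG_eq hγ hf a hz, norm_neg]
  exact_mod_cast h3

/-- `ζ ^ k - 1` is divisible by `1 - ζ`. -/
theorem exists_dvd (k : ZMod p) : ∃ y : ℂ, IsIntegral ℤ y ∧
    (ZMod.stdAddChar k : ℂ) - 1 = (1 - (ZMod.stdAddChar (1 : ZMod p) : ℂ)) * y := by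
  set ζ : ℂ := ZMod.stdAddChar (1 : ZMod p) with hζ
  have h1 : (ZMod.stdAddChar k : ℂ) = ζ ^ k.val := by
    rw [hζ, ← AddChar.map_nsmul_eq_pow, nsmul_eq_mul, mul_one, ZMod.natCast_val, ZMod.cast_id]
  have hint : IsIntegral ℤ ζ := by
    refine ⟨X ^ p - 1, monic_X_pow_sub_C 1 (Fact.out : p.Prime).ne_zero, ?_⟩
    have h2 : ζ ^ p = 1 := by
      rw [hζ, ← AddChar.map_nsmul_eq_pow, nsmul_eq_mul, mul_one, CharP.cast_eq_zero, AddChar.map_zero_eq_one]
    simp [h2]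
  refine ⟨-∑ i ∈ range k.val, ζ ^ i, (IsIntegral.sum _ fun i _ => hint.pow i).neg, ?_⟩
  rw [h1, mul_neg, ← neg_mul, neg_sub, mul_comm, geom_sum_mul]

theorem sum_root {n : ℕ} {z : ℂ} (hz : z ^ n = 1) (hz1 : z ≠ 1) : ∑ j ∈ range n, z ^ j = 0 := by
  have h := geom_sum_mul z n
  rw [hz, sub_self] at h
  rcases mul_eq_zero.1 h with h1 | h1
  · exact h1
  · exact absurd (sub_eq_zero.1 h1) hz1

theorem ideal (f : ℕ) (a : ZMod p) (z : ℂ) (hf : 1 ≤ f) (hz : z ^ (p ^ f - 1) = 1) (hz1 : z ≠ 1) :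
    ∃ y : ℂ, IsIntegral ℤ y ∧ PG p (TT hγ) f a z = (1 - (ZMod.stdAddChar (1 : ZMod p) : ℂ)) * y := by
  choose y hy hy' using exists_dvd (p := p)
  have hzi : IsIntegral ℤ z := by
    refine ⟨X ^ (p ^ f - 1) - 1, monic_X_pow_sub_C 1 (Nat.sub_ne_zero_of_lt (one_lt_q p hf)), ?_⟩
    simp [hz]
  refine ⟨-∑ j ∈ range (p ^ f - 1), y (a * TT hγ f j) * z ^ j,
    (IsIntegral.sum _ fun j _ => (hy _).mul (hzi.pow j)).neg, ?_⟩
  have h1 : ∑ j ∈ range (p ^ f - 1), (ZMod.stdAddChar (a * TT hγ f j) : ℂ) * z ^ j =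
      ∑ j ∈ range (p ^ f - 1), ((ZMod.stdAddChar (a * TT hγ f j) : ℂ) - 1) * z ^ j := by
    simp only [sub_mul, one_mul, Finset.sum_sub_distrib]
    rw [sum_root hz hz1, sub_zero]
  rw [PG, h1, mul_neg, Finset.mul_sum]
  congr 1
  refine Finset.sum_congr rfl fun j _ => ?_
  rw [hy', mul_assoc]

end dict

/-! ### Towers -/

theorem trace_trace_gen {k K L : Type*} [Field k] [Field K] [Field L] [Finite L] [Algebra k K]
    [Algebra K L] [Algebra k L] [IsScalarTower k K L] (x : L) :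
    Algebra.trace k K (Algebra.trace K L x) = Algebra.trace k L x := by
  have := Finite.of_injective _ (algebraMap K L).injective
  exact Algebra.trace_trace x

theorem trace_algebraMap_gen {k K L : Type*} [Field k] [Field K] [Field L] [Finite L] [Algebra k K]
    [Algebra K L] [Algebra k L] [IsScalarTower k K L] (x : K) :
    Algebra.trace k L (algebraMap K L x) = Module.finrank K L • Algebra.trace k K x := by
  have := Finite.of_injective _ (algebraMap K L).injective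
  rw [← trace_trace_gen (K := K), Algebra.trace_algebraMap, map_nsmul]

section tower

variable (p)

/-- The inclusion of `KF p f` in `KF p (f * m)`. -/
noncomputable def KFinc (f m : ℕ) : KF p f →ₐ[ZMod p] KF p (f * m) :=
  IntermediateField.inclusion (KF_le p (dvd_mul_right f m))

theorem KFinc_coe (f m : ℕ) (x : KF p f) :
    ((KFinc p f m x : KF p (f * m)) : AlgebraicClosure (ZMod p)) = x := rfl

/-- `KF p (f * m)` as an algebra over `KF p f`. -/
@[reducible] noncomputable def algKF (f m : ℕ) : Algebra (KF p f) (KF p (f * m)) :=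
  (KFinc p f m).toRingHom.toAlgebra

theorem algebraMap_KF_coe (f m : ℕ) (x : KF p f) : letI := algKF p f m
    ((algebraMap (KF p f) (KF p (f * m)) x : KF p (f * m)) : AlgebraicClosure (ZMod p)) = x := rfl

theorem tower_KF (f m : ℕ) : letI := algKF p f m
    IsScalarTower (ZMod p) (KF p f) (KF p (f * m)) := by
  let _ := algKF p f m
  exact IsScalarTower.of_algHom (KFinc p f m)

theorem finrank_tower {f m : ℕ} (hf : 1 ≤ f) (hm : 1 ≤ m) : letI := algKF p f m
    Module.finrank (KF p f) (KF p (f * m)) = m := by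
  let _ := algKF p f m
  have h1 := tower_KF p f m
  have h2 := Module.finrank_mul_finrank (ZMod p) (KF p f) (KF p (f * m))
  rw [finrank_KF p hf, finrank_KF p (Nat.mul_pos hf hm)] at h2
  exact Nat.eq_of_mul_eq_mul_left hf h2

theorem geom_eq {f : ℕ} (hf : 1 ≤ f) (m : ℕ) :
    ∑ i ∈ range m, (p ^ f) ^ i = (p ^ (f * m) - 1) / (p ^ f - 1) := by
  rw [Nat.geomSum_eq (one_lt_q p hf), pow_mul]

variable {p}
variable {γ : ℕ → AlgebraicClosure (ZMod p)} (hγ : NormGen p γ)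

theorem norm_gK {f m : ℕ} (hf : 1 ≤ f) (hm : 1 ≤ m) : letI := algKF p f m
    Algebra.norm (KF p f) (gK hγ (Nat.mul_pos hf hm)) = gK hγ hf := by
  let _ := algKF p f m
  have := finite_KF p (Nat.mul_pos hf hm)
  have h1 := FiniteField.algebraMap_norm_eq_pow_sum (KF p f) (KF p (f * m)) (gK hγ (Nat.mul_pos hf hm))
  rw [finrank_tower p hf hm, card_KF p hf, geom_eq p hf m] at h1
  have h2 := congrArg (Subtype.val : KF p (f * m) → AlgebraicClosure (ZMod p)) h1
  apply Subtype.ext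
  exact h2.trans (hγ.comp f m hf hm)

omit [Fact p.Prime] in
theorem pow_q_one {f m : ℕ} {z : ℂ} (hz : z ^ (p ^ f - 1) = 1) : z ^ (p ^ (f * m) - 1) = 1 := by
  have h1 : p ^ f - 1 ∣ p ^ (f * m) - 1 := by
    have h2 := Nat.sub_one_dvd_pow_sub_one (p ^ f) m
    rwa [← pow_mul] at h2
  obtain ⟨c, hc⟩ := h1
  rw [hc, pow_mul, hz, one_pow]

/-- `ω_z ∘ N = ω_z`. -/
theorem mulNorm_om {f m : ℕ} (hf : 1 ≤ f) (hm : 1 ≤ m) {z : ℂ} (hz : z ^ (p ^ f - 1) = 1) :
    letI := algKF p f m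
    mulNorm (L := KF p (f * m)) (om hγ hf z) = om hγ (Nat.mul_pos hf hm) z := by
  let _ := algKF p f m
  apply char_ext hγ (Nat.mul_pos hf hm)
  rw [om_gK hγ _ (pow_q_one hz), ← gU_coe hγ (Nat.mul_pos hf hm), mulNorm, MulChar.ofUnitHom_coe]
  change (om hγ hf z) (Algebra.norm (KF p f) (gK hγ (Nat.mul_pos hf hm))) = z
  rw [norm_gK hγ hf hm, om_gK hγ hf hz]

/-- `ψ ∘ Tr = ψ`. -/
theorem addTrace_psi {f m : ℕ} (hf : 1 ≤ f) (hm : 1 ≤ m) (a : ZMod p) : letI := algKF p f m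
    addTrace (KF p (f * m)) (psi p f a) = psi p (f * m) a := by
  let _ := algKF p f m
  have := tower_KF p f m
  have := finite_KF p (Nat.mul_pos hf hm)
  have := finite_KF p hf
  ext x
  change psi p f a (Algebra.trace (KF p f) (KF p (f * m)) x) = _
  rw [psi_apply, psi_apply, trace_trace_gen]

theorem sub (f m j : ℕ) (hf : 1 ≤ f) (hm : 1 ≤ m) :
    TT hγ (f * m) ((p ^ (f * m) - 1) / (p ^ f - 1) * j) = (m : ZMod p) * TT hγ f j := by
  let _ := algKF p f m
  have := tower_KF p f m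
  have := finite_KF p (Nat.mul_pos hf hm)
  have := finite_KF p hf
  rw [TT_eq hγ (Nat.mul_pos hf hm), TT_eq hγ hf]
  have h1 : gK hγ (Nat.mul_pos hf hm) ^ ((p ^ (f * m) - 1) / (p ^ f - 1) * j) =
      algebraMap (KF p f) (KF p (f * m)) (gK hγ hf ^ j) := by
    apply Subtype.ext
    change γ (f * m) ^ ((p ^ (f * m) - 1) / (p ^ f - 1) * j) = γ f ^ j
    rw [pow_mul, hγ.comp f m hf hm]
  rw [h1, trace_algebraMap_gen, finrank_tower p hf hm, nsmul_eq_mul]

end tower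

end Cfsg.Agent.H577.KGV
end

-- part: H577/KGV/Cst
section
/-!
# The constants of the product formula (KGV, NT6b; helper577)

* `PG_mul_inv` : `P(w) P(w⁻¹) = q` for `w` of odd order; `cG_odd : cG p T f ℓ a = q ^ ((ℓ - 1) / 2)`;
* `cG_two`; `cst` : the field `cst` of `GaussSys`.
-/

set_option autoImplicit false

namespace Cfsg.Agent.H577.KGV

open Finset Polynomial Cfsg.Agent.H644.KGV

variable {p : ℕ} [Fact p.Prime]
variable {γ : ℕ → AlgebraicClosure (ZMod p)} (hγ : NormGen p γ)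

theorem PG_mul_inv {f ℓ : ℕ} {a : ZMod p} {w : ℂ} (hf : 1 ≤ f) (ha : a ≠ 0) (hw : w ^ (p ^ f - 1) = 1)
    (hw1 : w ≠ 1) (hl : Odd ℓ) (hwl : w ^ ℓ = 1) :
    PG p (TT hγ) f a w * PG p (TT hγ) f a w⁻¹ = (p : ℂ) ^ f := by
  have := finite_KF p hf
  have := Fintype.ofFinite (KF p f)
  have hwi : w⁻¹ ^ (p ^ f - 1) = 1 := by rw [inv_pow, hw, inv_one]
  have h0 : om hγ hf w⁻¹ = (om hγ hf w)⁻¹ := by
    rw [eq_inv_iff_mul_eq_one, ← om_mul hγ hf hwi hw, inv_mul_cancel₀, om_one]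
    rintro rfl
    rw [zero_pow (Nat.sub_ne_zero_of_lt (one_lt_q p hf))] at hw
    exact zero_ne_one hw
  have h1 : om hγ hf w ≠ 1 := fun h => hw1 ((om_eq_one_iff hγ hf hw).1 h)
  have h2 := gaussSum_mul_gaussSum_eq_card h1 (psi_primitive p hf ha)
  have h3 := mul_gaussSum_inv_eq_gaussSum (om hγ hf w)⁻¹ (psi p f a)
  have h4 : (om hγ hf w)⁻¹ (-1) = 1 := by
    have h5 : ((om hγ hf w)⁻¹ (-1 : KF p f)) ^ 2 = 1 := by
      rw [← map_pow, neg_one_sq, map_one]
    have h6 : ((om hγ hf w)⁻¹ (-1 : KF p f)) ^ ℓ = 1 := by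
      have h7 : ((om hγ hf w)⁻¹) ^ ℓ = 1 := by
        rw [inv_pow, ← om_pow hγ hf hw, hwl, om_one, inv_one]
      have h8 := MulChar.pow_apply_coe ((om hγ hf w)⁻¹) ℓ (-1 : (KF p f)ˣ)
      rw [h7, MulChar.one_apply_coe] at h8
      rw [Units.val_neg, Units.val_one] at h8
      exact h8.symm
    obtain ⟨n, rfl⟩ := hl
    rwa [pow_succ, pow_mul, h5, one_pow, one_mul] at h6
  rw [h4, one_mul] at h3
  rw [PG_eq hγ hf a hw, PG_eq hγ hf a hwi, h0, neg_mul_neg, ← h3, h2, card_KF' hf]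
  push_cast
  rfl

theorem prod_pairs {h : ℕ → ℂ} {c : ℂ} (n : ℕ) (hc : ∀ i < n, h (i + 1) * h (2 * n + 1 - (i + 1)) = c) :
    ∏ i ∈ range (2 * n + 1), h i = h 0 * c ^ n := by
  rw [Finset.prod_range_succ', mul_comm, two_mul, Finset.prod_range_add]
  congr 1
  have h1 : ∏ x ∈ range n, h (n + x + 1) = ∏ i ∈ range n, h (2 * n + 1 - (i + 1)) := by
    rw [← Finset.prod_range_reflect]
    refine Finset.prod_congr rfl fun i hi => ?_
    rw [Finset.mem_range] at hi
    congr 1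
    omega
  rw [h1, ← Finset.prod_mul_distrib, Finset.prod_congr rfl (fun i hi => hc i (Finset.mem_range.1 hi)),
    Finset.prod_const, Finset.card_range]

theorem prod_nthRoots {ℓ : ℕ} (hl : 0 < ℓ) (g : ℂ → ℂ) :
    ∏ w ∈ nthRootsFinset ℓ (1 : ℂ), g w =
      ∏ i ∈ range ℓ, g (Complex.exp (2 * Real.pi * Complex.I / ℓ) ^ i) := by
  have hp := Complex.isPrimitiveRoot_exp ℓ hl.ne'
  have : NeZero ℓ := ⟨hl.ne'⟩
  symm
  refine Finset.prod_bij (fun i _ => Complex.exp (2 * Real.pi * Complex.I / ℓ) ^ i) ?_ ?_ ?_ ?_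
  · intro i _
    rw [mem_nthRootsFinset hl, ← pow_mul, Nat.mul_comm, pow_mul, hp.pow_eq_one, one_pow]
  · intro i hi j hj hij
    exact hp.pow_inj (Finset.mem_range.1 hi) (Finset.mem_range.1 hj) hij
  · intro w hw
    rw [mem_nthRootsFinset hl] at hw
    obtain ⟨i, hi, hiw⟩ := hp.eq_pow_of_pow_eq_one hw
    exact ⟨i, Finset.mem_range.2 hi, hiw⟩
  · intro i _
    rfl

/-- The constant for odd `ℓ`. -/
theorem cG_odd {f ℓ : ℕ} {a : ZMod p} (hf : 1 ≤ f) (ha : a ≠ 0) (hl : Odd ℓ) (hd : ℓ ∣ p ^ f - 1) :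
    cG p (TT hγ) f ℓ a = ((p : ℂ) ^ f) ^ ((ℓ - 1) / 2) := by
  have hl0 : 0 < ℓ := hl.pos
  have hp := Complex.isPrimitiveRoot_exp ℓ hl0.ne'
  set ζ := Complex.exp (2 * Real.pi * Complex.I / ℓ) with hζ
  rw [cG, prod_nthRoots hl0, ← hζ]
  obtain ⟨n, rfl⟩ := hl
  have hq : ∀ i : ℕ, (ζ ^ i) ^ (p ^ f - 1) = 1 := by
    intro i
    obtain ⟨c, hc⟩ := hd
    rw [hc, ← pow_mul, mul_comm, mul_assoc, pow_mul, hp.pow_eq_one, one_pow]
  rw [prod_pairs (c := (p : ℂ) ^ f) n, pow_zero, one hγ f a hf ha, one_mul]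
  · congr 1
    omega
  · intro i hi
    have h1 : ζ ^ (2 * n + 1 - (i + 1)) = (ζ ^ (i + 1))⁻¹ := by
      apply eq_inv_of_mul_eq_one_left
      rw [← pow_add, Nat.sub_add_cancel (by omega), hp.pow_eq_one]
    rw [h1]
    refine PG_mul_inv hγ hf ha (hq _) ?_ (ℓ := 2 * n + 1) ⟨n, rfl⟩ ?_
    · intro h
      have := (hp.pow_eq_one_iff_dvd (i + 1)).1 h
      have := Nat.le_of_dvd (by omega) this
      omega
    · rw [← pow_mul, mul_comm, pow_mul, hp.pow_eq_one, one_pow]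

/-- The constant for `2`. -/
theorem cG_two {f : ℕ} {a : ZMod p} (hf : 1 ≤ f) (ha : a ≠ 0) :
    cG p (TT hγ) f 2 a = PG p (TT hγ) f a (-1) := by
  have h1 : nthRootsFinset 2 (1 : ℂ) = {1, -1} := by
    ext x
    rw [mem_nthRootsFinset (by norm_num), Finset.mem_insert, Finset.mem_singleton, pow_two, mul_self_eq_one_iff]
  rw [cG, h1, Finset.prod_pair (by norm_num), one hγ f a hf ha, one_mul]

theorem sum_eq_count {n : ℕ} (P : ℕ → Prop) [DecidablePred P] (t : ℕ → ZMod p) (a : ZMod p) :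
    ∑ j ∈ (range n).filter P, (ZMod.stdAddChar (a * t j) : ℂ) =
      ∑ k : ZMod p, (ZMod.stdAddChar (a * k) : ℂ) *
        ((((range n).filter P).filter (fun j => t j = k)).card : ℂ) := by
  rw [← Finset.sum_fiberwise_of_maps_to (g := t) (t := univ) (fun _ _ => mem_univ _)]
  refine Finset.sum_congr rfl fun k _ => ?_
  rw [Finset.sum_congr rfl (g := fun _ => (ZMod.stdAddChar (a * k) : ℂ)), Finset.sum_const, nsmul_eq_mul,
    mul_comm]
  intro j hj
  rw [(Finset.mem_filter.1 hj).2]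

theorem cst_two {f : ℕ} (hf : 1 ≤ f) : ∃ m : ZMod p → ℤ, ∀ a, a ≠ 0 →
    cG p (TT hγ) f 2 a = 1 + ((2 : ℕ) : ℂ) * ∑ k : ZMod p, (ZMod.stdAddChar (a * k) : ℂ) * (m k : ℂ) := by
  classical
  refine ⟨fun k => -((((range (p ^ f - 1)).filter Even).filter (fun j => TT hγ f j = k)).card : ℤ) -
    if k = 0 then 1 else 0, fun a ha => ?_⟩
  have h1 := one hγ f a hf ha
  rw [cG_two hγ hf ha]
  rw [PG] at h1 ⊢
  simp only [one_pow, mul_one] at h1
  have h3 : ∑ j ∈ range (p ^ f - 1), (ZMod.stdAddChar (a * TT hγ f j) : ℂ) * (-1) ^ j =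
      2 * ∑ j ∈ (range (p ^ f - 1)).filter Even, (ZMod.stdAddChar (a * TT hγ f j) : ℂ) -
      ∑ j ∈ range (p ^ f - 1), (ZMod.stdAddChar (a * TT hγ f j) : ℂ) := by
    rw [Finset.sum_filter, Finset.mul_sum, ← Finset.sum_sub_distrib]
    refine Finset.sum_congr rfl fun j _ => ?_
    split_ifs with hj
    · rw [hj.neg_one_pow]
      ring
    · rw [(Nat.not_even_iff_odd.1 hj).neg_one_pow]
      ring
  have h4 : ∑ k : ZMod p, (ZMod.stdAddChar (a * k) : ℂ) *
      ((-((((range (p ^ f - 1)).filter Even).filter (fun j => TT hγ f j = k)).card : ℤ) -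
        if k = 0 then 1 else 0 : ℤ) : ℂ) =
      -(∑ j ∈ (range (p ^ f - 1)).filter Even, (ZMod.stdAddChar (a * TT hγ f j) : ℂ)) - 1 := by
    rw [sum_eq_count, ← Finset.sum_neg_distrib]
    have h5 : (1 : ℂ) = ∑ k : ZMod p, (ZMod.stdAddChar (a * k) : ℂ) * (if k = 0 then 1 else 0) := by
      simp
    rw [h5, ← Finset.sum_sub_distrib]
    refine Finset.sum_congr rfl fun k _ => ?_
    push_cast
    ring
  rw [h4, h3]
  push_cast
  linear_combination (-1 : ℂ) * h1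

/-- The field `cst`. -/
theorem cst (f ℓ : ℕ) (hf : 1 ≤ f) (hl : ℓ.Prime) (hd : ℓ ∣ p ^ f - 1) : ∃ m : ZMod p → ℤ, ∀ a, a ≠ 0 →
    cG p (TT hγ) f ℓ a = 1 + (ℓ : ℂ) * ∑ k : ZMod p, (ZMod.stdAddChar (a * k) : ℂ) * (m k : ℂ) := by
  classical
  rcases hl.eq_two_or_odd' with rfl | ho
  · exact cst_two hγ hf
  · have h1 : (ℓ : ℤ) ∣ ((p ^ f) ^ ((ℓ - 1) / 2) : ℕ) - 1 := by
      have h2 : ℓ ∣ (p ^ f) ^ ((ℓ - 1) / 2) - 1 := hd.trans (Nat.sub_one_dvd_pow_sub_one _ _)
      have h3 : 1 ≤ (p ^ f) ^ ((ℓ - 1) / 2) := Nat.one_le_pow _ _ (one_lt_q p hf).le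
      have h4 := Int.natCast_dvd_natCast.2 h2
      rwa [Nat.cast_sub h3, Nat.cast_one] at h4
    obtain ⟨c, hc⟩ := h1
    refine ⟨fun k => if k = 0 then c else 0, fun a ha => ?_⟩
    rw [cG_odd hγ hf ha ho hd]
    have h5 : ∑ k : ZMod p, (ZMod.stdAddChar (a * k) : ℂ) * ((if k = 0 then c else 0 : ℤ) : ℂ) = c := by
      simp
    rw [h5]
    have h6 : (((((p ^ f) ^ ((ℓ - 1) / 2) : ℕ) : ℤ) - 1 : ℤ) : ℂ) = ((ℓ : ℤ) * c : ℤ) := by rw [hc]
    push_cast at h6
    linear_combination h6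

end Cfsg.Agent.H577.KGV
end

-- part: H450/KGV/Gamma
section
/-!
# Existence of norm compatible primitive elements (KGV, NT6a)
-/

set_option autoImplicit false

namespace Cfsg.Agent.H450.KGV

open Cfsg.Agent.H577.KGV

section Seq

variable {K : Type*} [Field K] [IsSepClosed K]

/-- Lifting a primitive `N`-th root of unity to a primitive `M`-th root of unity. -/
theorem exists_lift {M N : ℕ} (hNM : N ∣ M) (hM : ((M : ℕ) : K) ≠ 0) {x : K}
    (hx : IsPrimitiveRoot x N) : ∃ y : K, IsPrimitiveRoot y M ∧ y ^ (M / N) = x := by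
  have hM0 : M ≠ 0 := by
    rintro rfl
    simp at hM
  have hN0 : N ≠ 0 := by
    rintro rfl
    exact hM0 (Nat.eq_zero_of_zero_dvd hNM)
  have : NeZero M := ⟨hM0⟩
  have : NeZero N := ⟨hN0⟩
  have : NeZero ((M : ℕ) : K) := ⟨hM⟩
  obtain ⟨ζ, hζ⟩ := HasEnoughRootsOfUnity.exists_primitiveRoot K M
  have hMN : M = (M / N) * N := (Nat.div_mul_cancel hNM).symm
  have hζN : IsPrimitiveRoot (ζ ^ (M / N)) N := hζ.pow (Nat.pos_of_ne_zero hM0) hMN
  obtain ⟨i, hi, hic, hix⟩ := (hζN.isPrimitiveRoot_iff).1 hx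
  obtain ⟨u, hu⟩ := ZMod.unitsMap_surjective hNM (ZMod.unitOfCoprime i hic)
  have hju : ((u : ZMod M).val : ZMod N) = (i : ZMod N) := by
    have h1 := congrArg (fun w : (ZMod N)ˣ => (w : ZMod N)) hu
    simp only [ZMod.unitsMap_val, ZMod.coe_unitOfCoprime] at h1
    rw [← h1, ZMod.cast_eq_val]
  have hjc : Nat.Coprime (u : ZMod M).val M := ZMod.val_coe_unit_coprime u
  refine ⟨ζ ^ (u : ZMod M).val, hζ.pow_of_coprime _ hjc, ?_⟩
  rw [← hix, ← pow_mul, mul_comm, pow_mul]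
  have h2 : (u : ZMod M).val ≡ i [MOD N] := (ZMod.natCast_eq_natCast_iff _ _ _).1 hju
  have h3 := hζN.eq_orderOf
  rw [← pow_mod_orderOf, ← h3, show (u : ZMod M).val % N = i % N from h2]
  conv_rhs => rw [← pow_mod_orderOf, ← h3]

variable (N : ℕ → ℕ) (hd : ∀ n, N n ∣ N (n + 1)) (hN : ∀ n, ((N n : ℕ) : K) ≠ 0)

include hd hN

theorem exists_seq : ∃ δ : ℕ → K, (∀ n, IsPrimitiveRoot (δ n) (N n)) ∧
    ∀ n, δ (n + 1) ^ (N (n + 1) / N n) = δ n := by
  have h0 : ∃ x : K, IsPrimitiveRoot x (N 0) := by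
    have : NeZero ((N 0 : ℕ) : K) := ⟨hN 0⟩
    exact HasEnoughRootsOfUnity.exists_primitiveRoot K (N 0)
  obtain ⟨x0, hx0⟩ := h0
  let step : ∀ n, {x : K // IsPrimitiveRoot x (N n)} → {x : K // IsPrimitiveRoot x (N (n + 1))} :=
    fun n x => ⟨(exists_lift (hd n) (hN (n + 1)) x.2).choose,
      (exists_lift (hd n) (hN (n + 1)) x.2).choose_spec.1⟩
  let δ : ∀ n, {x : K // IsPrimitiveRoot x (N n)} := fun n =>
    Nat.rec (motive := fun n => {x : K // IsPrimitiveRoot x (N n)}) ⟨x0, hx0⟩ step n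
  refine ⟨fun n => (δ n : K), fun n => (δ n).2, fun n => ?_⟩
  exact (exists_lift (hd n) (hN (n + 1)) (δ n).2).choose_spec.2

theorem exists_seq' : ∃ δ : ℕ → K, (∀ n, IsPrimitiveRoot (δ n) (N n)) ∧
    ∀ n m, n ≤ m → N n ∣ N m ∧ δ m ^ (N m / N n) = δ n := by
  obtain ⟨δ, h1, h2⟩ := exists_seq (K := K) N hd hN
  have hpos : ∀ n, 0 < N n := fun n => Nat.pos_of_ne_zero (by
    intro h
    exact hN n (by rw [h]; simp))
  refine ⟨δ, h1, fun n m hnm => ?_⟩
  induction m, hnm using Nat.le_induction with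
  | base => exact ⟨dvd_rfl, by rw [Nat.div_self (hpos n), pow_one]⟩
  | succ m hm ih =>
    refine ⟨ih.1.trans (hd m), ?_⟩
    have h3 : N (m + 1) / N n = (N (m + 1) / N m) * (N m / N n) :=
      (Nat.div_mul_div_comm (hd m) ih.1).symm ▸ by
        rw [mul_comm (N m) (N n), Nat.mul_div_mul_right _ _ (hpos m)]
    rw [h3, pow_mul, h2, ih.2]

end Seq

theorem exists_normGen (p : ℕ) [Fact p.Prime] :
    ∃ γ : ℕ → AlgebraicClosure (ZMod p), NormGen p γ := by
  have hp : p.Prime := Fact.out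
  set K := AlgebraicClosure (ZMod p) with hK
  have : CharP K p := inferInstance
  have hpow : ∀ n, 1 ≤ n → ((p ^ n - 1 : ℕ) : K) ≠ 0 := by
    intro n hn
    rw [Nat.cast_sub (Nat.one_le_pow _ _ hp.pos)]
    simp [show n ≠ 0 by omega]
  have hpos : ∀ n, 1 ≤ n → 0 < p ^ n - 1 := fun n hn => by
    have := Nat.one_lt_pow (show n ≠ 0 by omega) hp.one_lt
    omega
  obtain ⟨δ, h1, h2⟩ := exists_seq' (K := K) (fun n => p ^ n.factorial - 1)
    (fun n => Nat.pow_sub_one_dvd_pow_sub_one _ (Nat.factorial_dvd_factorial (Nat.le_succ n)))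
    (fun n => hpow _ (Nat.factorial_pos n))
  refine ⟨fun f => δ f ^ ((p ^ f.factorial - 1) / (p ^ f - 1)), ⟨fun f hf => ?_, fun f m hf hm => ?_⟩⟩
  · have h3 : p ^ f - 1 ∣ p ^ f.factorial - 1 :=
      Nat.pow_sub_one_dvd_pow_sub_one _ (Nat.dvd_factorial hf le_rfl)
    exact ((h1 f).pow (hpos _ (Nat.factorial_pos f)) (Nat.div_mul_cancel h3).symm).eq_orderOf.symm
  · have hfm : f ≤ f * m := Nat.le_mul_of_pos_right f hm
    have h3 : p ^ f - 1 ∣ p ^ f.factorial - 1 :=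
      Nat.pow_sub_one_dvd_pow_sub_one _ (Nat.dvd_factorial hf le_rfl)
    have h4 : p ^ f - 1 ∣ p ^ (f * m) - 1 :=
      Nat.pow_sub_one_dvd_pow_sub_one _ (dvd_mul_right f m)
    have h5 : p ^ (f * m) - 1 ∣ p ^ (f * m).factorial - 1 :=
      Nat.pow_sub_one_dvd_pow_sub_one _ (Nat.dvd_factorial (Nat.mul_pos hf hm) le_rfl)
    obtain ⟨h6, h7⟩ := h2 f (f * m) hfm
    show (δ (f * m) ^ _) ^ _ = δ f ^ _
    rw [← h7, ← pow_mul, ← pow_mul]
    congr 1
    have key : ∀ a b c d : ℕ, 0 < a → 0 < b → 0 < c → a ∣ b → b ∣ d → a ∣ c → c ∣ d →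
        d / b * (b / a) = d / c * (c / a) := by
      rintro a b c d ha hb hc ⟨x, rfl⟩ ⟨y, rfl⟩ ⟨z, rfl⟩ ⟨w, hw⟩
      rw [Nat.mul_div_cancel_left _ ha, Nat.mul_div_cancel_left _ ha,
        Nat.mul_div_cancel_left _ hb, hw, Nat.mul_div_cancel_left _ hc]
      have : a * (x * y) = a * (z * w) := by rw [← mul_assoc, ← mul_assoc]; exact hw
      have := Nat.eq_of_mul_eq_mul_left ha this
      rw [mul_comm y x, this, mul_comm]
    exact key _ _ _ _ (hpos f hf) (hpos _ (Nat.mul_pos hf hm)) (hpos _ (Nat.factorial_pos f)) h4 h5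
      h3 h6

end Cfsg.Agent.H450.KGV
end

-- part: H577/KGV/Sys
section
/-!
# The Gauss system (KGV, NT6b; helper577)

`lift`, `split`, `nonsplit` and `exists_gaussSys` from the Hasse-Davenport theorems.
-/

set_option autoImplicit false

namespace Cfsg.Agent.H577.KGV

open Finset Polynomial Cfsg.Agent.H644.KGV

variable {p : ℕ} [Fact p.Prime]
variable {γ : ℕ → AlgebraicClosure (ZMod p)} (hγ : NormGen p γ)

/-- The field `lift`. -/
theorem lift (h1 : HDLift) (f m : ℕ) (a : ZMod p) (z : ℂ) (hf : 1 ≤ f) (hm : 1 ≤ m) (ha : a ≠ 0)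
    (hz : z ^ (p ^ f - 1) = 1) : PG p (TT hγ) (f * m) a z = PG p (TT hγ) f a z ^ m := by
  have := finite_KF p hf
  have := finite_KF p (Nat.mul_pos hf hm)
  have := Fintype.ofFinite (KF p f)
  have := Fintype.ofFinite (KF p (f * m))
  let _ := algKF p f m
  have h := h1 (KF p f) (KF p (f * m)) (om hγ hf z) (psi p f a) (psi_ne_one p hf ha)
  rw [mulNorm_om hγ hf hm hz, addTrace_psi hf hm a, finrank_tower p hf hm] at h
  rw [PG_eq hγ (Nat.mul_pos hf hm) a (pow_q_one hz), PG_eq hγ hf a hz, h]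

theorem cG_two' {f : ℕ} [Fintype (KF p f)] {a : ZMod p} (hf : 1 ≤ f) (ha : a ≠ 0) (h2 : (-1 : ℂ) ^ (p ^ f - 1) = 1) :
    cG p (TT hγ) f 2 a = -gaussSum (om hγ hf (-1)) (psi p f a) := by
  rw [cG_two hγ hf ha, PG_eq hγ hf a h2]

theorem ringChar_ne_two {f : ℕ} (hf : 1 ≤ f) (h2 : 2 ∣ p ^ f - 1) : ringChar (KF p f) ≠ 2 := by
  have h1 : ringChar (KF p f) = p := ringChar.eq (KF p f) p |>.symm ▸ rfl
  rw [h1]
  rintro rfl
  have h3 := one_lt_q 2 hf
  have h4 : 2 ∣ 2 ^ f := dvd_pow_self 2 (by omega)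
  omega

theorem om_neg_one_ne {f : ℕ} (hf : 1 ≤ f) (h2 : (-1 : ℂ) ^ (p ^ f - 1) = 1) : om hγ hf (-1) ≠ 1 := by
  intro h
  have := (om_eq_one_iff hγ hf h2).1 h
  norm_num at this

theorem om_neg_one_sq {f : ℕ} (hf : 1 ≤ f) (h2 : (-1 : ℂ) ^ (p ^ f - 1) = 1) : om hγ hf (-1) ^ 2 = 1 := by
  rw [← om_pow hγ hf h2, neg_one_sq, om_one]

omit [Fact p.Prime] in
theorem neg_one_pow_q {f : ℕ} (h2 : 2 ∣ p ^ f - 1) : (-1 : ℂ) ^ (p ^ f - 1) = 1 := by
  obtain ⟨c, hc⟩ := h2
  rw [hc, pow_mul, neg_one_sq, one_pow]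

/-- The field `split`. -/
theorem split (h2 : HDTwo) (h3 : HDOdd) (f ℓ : ℕ) (a : ZMod p) (z : ℂ) (hf : 1 ≤ f) (hl : ℓ.Prime)
    (hd : ℓ ∣ p ^ f - 1) (ha : a ≠ 0) (hz : z ^ (p ^ f - 1) = 1) :
    ∏ w ∈ nthRootsFinset ℓ (1 : ℂ), PG p (TT hγ) f a (z * w) =
      PG p (TT hγ) f ((ℓ : ZMod p) * a) (z ^ ℓ) * cG p (TT hγ) f ℓ a := by
  have := finite_KF p hf
  have := Fintype.ofFinite (KF p f)
  have hzl : (z ^ ℓ) ^ (p ^ f - 1) = 1 := by rw [← pow_mul, mul_comm, pow_mul, hz, one_pow]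
  rcases hl.eq_two_or_odd' with rfl | ho
  · have hm := neg_one_pow_q (p := p) (f := f) hd
    have hmz : (z * -1) ^ (p ^ f - 1) = 1 := by rw [mul_pow, hz, hm, one_mul]
    have h1 : nthRootsFinset 2 (1 : ℂ) = {1, -1} := by
      ext x
      rw [mem_nthRootsFinset (by norm_num), Finset.mem_insert, Finset.mem_singleton, pow_two, mul_self_eq_one_iff]
    have h4 := h2 (KF p f) (om hγ hf z) (om hγ hf (-1)) (psi p f a) (psi_ne_one p hf ha)
      (ringChar_ne_two hf hd) (om_neg_one_ne hγ hf hm) (om_neg_one_sq hγ hf hm)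
    rw [← om_mul hγ hf hz hm, ← om_pow hγ hf hz, show (2 : KF p f) = ((2 : ℕ) : KF p f) by norm_num,
      psi_mulShift] at h4
    rw [h1, Finset.prod_pair (by norm_num), mul_one, cG_two' hγ hf ha hm, PG_eq hγ hf a hz,
      PG_eq hγ hf a hmz, PG_eq hγ hf _ hzl, neg_mul_neg, neg_mul_neg, h4]
  · have hl0 : 0 < ℓ := hl.pos
    have hp := Complex.isPrimitiveRoot_exp ℓ hl0.ne'
    rw [prod_nthRoots hl0, cG_odd hγ hf ha ho hd]
    set ζ := Complex.exp (2 * Real.pi * Complex.I / ℓ) with hζ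
    have hζ1 : ζ ^ (p ^ f - 1) = 1 := by
      obtain ⟨c, hc⟩ := hd
      rw [hc, pow_mul, hp.pow_eq_one, one_pow]
    have hord : orderOf (om hγ hf ζ) = ℓ := by rw [orderOf_om hγ hf hζ1, ← hp.eq_orderOf]
    have h4 := h3 (KF p f) (om hγ hf z) (om hγ hf ζ) (psi p f a) ℓ (psi_ne_one p hf ha) hl
      (by rintro rfl; exact absurd ho (by decide)) hord
    rw [card_KF' hf, psi_mulShift, ← om_pow hγ hf hz] at h4
    rw [PG_eq hγ hf _ hzl]
    push_cast at h4
    rw [← h4]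
    refine Finset.prod_congr rfl fun i _ => ?_
    have hζi : (ζ ^ i) ^ (p ^ f - 1) = 1 := by rw [← pow_mul, mul_comm, pow_mul, hζ1, one_pow]
    rw [PG_eq hγ hf a (by rw [mul_pow, hz, hζi, one_mul]), om_mul hγ hf hz hζi, om_pow hγ hf hζ1]

theorem dvd_aux {f ℓ : ℕ} (hf : 1 ≤ f) (hd : ℓ ∣ p ^ f - 1) : ℓ * (p ^ f - 1) ∣ p ^ (f * ℓ) - 1 := by
  have h1 : p ^ (f * ℓ) - 1 = (∑ i ∈ range ℓ, (p ^ f) ^ i) * (p ^ f - 1) := by
    have h2 := Nat.geomSum_eq (one_lt_q p hf) ℓ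
    have h3 : p ^ f - 1 ∣ (p ^ f) ^ ℓ - 1 := Nat.sub_one_dvd_pow_sub_one _ _
    rw [h2, Nat.div_mul_cancel h3, pow_mul]
  rw [h1]
  refine Nat.mul_dvd_mul ?_ dvd_rfl
  have h4 : (∑ i ∈ range ℓ, (p ^ f) ^ i) ≡ ∑ i ∈ range ℓ, 1 [MOD ℓ] := by
    have h5 : p ^ f ≡ 1 [MOD ℓ] := ((Nat.modEq_iff_dvd' (one_lt_q p hf).le).2 hd).symm
    refine Nat.ModEq.sum fun i _ => ?_
    simpa using h5.pow i
  rw [Finset.sum_const, Finset.card_range, smul_eq_mul, mul_one] at h4
  exact (Nat.modEq_zero_iff_dvd.1 (h4.trans (Nat.modEq_zero_iff_dvd.2 dvd_rfl)))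

/-- The field `nonsplit`. -/
theorem nonsplit (h4 : HDOddNS) (h5 : HDTwoNS) (f ℓ : ℕ) (a : ZMod p) (z : ℂ) (hf : 1 ≤ f) (hl : ℓ.Prime)
    (hd : ℓ ∣ p ^ f - 1) (ha : a ≠ 0) (hz : (z ^ ℓ) ^ (p ^ f - 1) = 1) (hz1 : z ^ (p ^ f - 1) ≠ 1) :
    PG p (TT hγ) (f * ℓ) a z = PG p (TT hγ) f ((ℓ : ZMod p) * a) (z ^ ℓ) * cG p (TT hγ) f ℓ a := by
  have hm : 1 ≤ ℓ := hl.pos
  have hfm : 1 ≤ f * ℓ := Nat.mul_pos hf hm
  have := finite_KF p hf
  have := finite_KF p hfm
  have := Fintype.ofFinite (KF p f)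
  have := Fintype.ofFinite (KF p (f * ℓ))
  let _ := algKF p f ℓ
  have hzq : z ^ (p ^ (f * ℓ) - 1) = 1 := by
    obtain ⟨c, hc⟩ := dvd_aux (p := p) hf hd
    rw [hc, pow_mul, pow_mul, hz, one_pow]
  have hX : om hγ hfm z ^ ℓ = mulNorm (L := KF p (f * ℓ)) (om hγ hf (z ^ ℓ)) := by
    rw [mulNorm_om hγ hf hm hz, om_pow hγ hfm hzq]
  have hX1 : om hγ hfm z ^ (Fintype.card (KF p f) - 1) ≠ 1 := by
    rw [card_KF' hf, ← om_pow hγ hfm hzq]
    intro h
    apply hz1
    refine (om_eq_one_iff hγ hfm ?_).1 h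
    rw [← pow_mul, mul_comm, pow_mul, hzq, one_pow]
  rcases hl.eq_two_or_odd' with rfl | ho
  · have hmm := neg_one_pow_q (p := p) (f := f) hd
    have h6 := h5 (KF p f) (KF p (f * 2)) (om hγ hfm z) (om hγ hf (z ^ 2)) (om hγ hf (-1)) (psi p f a)
      (psi_ne_one p hf ha) (ringChar_ne_two hf hd) (om_neg_one_ne hγ hf hmm) (om_neg_one_sq hγ hf hmm)
      (finrank_tower p hf hm) hX hX1
    rw [addTrace_psi hf hm a, show (2 : KF p f) = ((2 : ℕ) : KF p f) by norm_num, psi_mulShift] at h6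
    rw [PG_eq hγ hfm a hzq, h6, cG_two' hγ hf ha hmm, PG_eq hγ hf _ hz, neg_mul_neg]
  · have h6 := h4 (KF p f) (KF p (f * ℓ)) (om hγ hfm z) (om hγ hf (z ^ ℓ)) (psi p f a) ℓ
      (psi_ne_one p hf ha) hl (by rintro rfl; exact absurd ho (by decide)) (by rw [card_KF' hf]; exact hd)
      (finrank_tower p hf hm) hX hX1
    rw [addTrace_psi hf hm a, psi_mulShift, card_KF' hf] at h6
    rw [PG_eq hγ hfm a hzq, h6, cG_odd hγ hf ha ho hd, PG_eq hγ hf _ hz]
    push_cast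
    rfl

/-- **The Gauss system.** -/
theorem exists_gaussSys (h1 : HDLift) (h2 : HDTwo) (h3 : HDOdd) (h4 : HDOddNS) (h5 : HDTwoNS)
    (p : ℕ) [Fact p.Prime] : ∃ T, GaussSys p T := by
  obtain ⟨γ, hγ⟩ := Cfsg.Agent.H450.KGV.exists_normGen p
  exact ⟨TT hγ, {
    per := per hγ
    frob := frob hγ
    sub := sub hγ
    one := one hγ
    norm := norm hγ
    ideal := ideal hγ
    lift := lift hγ h1
    split := split hγ h2 h3
    nonsplit := nonsplit hγ h4 h5
    cst := cst hγ }⟩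

end Cfsg.Agent.H577.KGV
end

-- part: H991/KGV/CountA
section
/-!
# KGV, task COUNT: arithmetic (helper991)
-/

set_option autoImplicit false

namespace Cfsg.Agent.H991.KGV

open Finset
open scoped ComplexConjugate

section Arith

variable {p : ℕ} [hp : Fact p.Prime]

/-- **The variance of an integer valued function on `ZMod p` with sum prime to `p`.** -/
theorem arith (m : ZMod p → ℤ) (hS : ¬ (p : ℤ) ∣ ∑ k, m k) :
    (p : ℤ) - 1 ≤ p * ∑ k, m k ^ 2 - (∑ k, m k) ^ 2 ∧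
      (p * ∑ k, m k ^ 2 - (∑ k, m k) ^ 2 = (p : ℤ) - 1 →
        (p : ℤ) ∣ (∑ k, m k) - 1 ∨ (p : ℤ) ∣ (∑ k, m k) + 1) := by
  have hp2 : (2 : ℤ) ≤ p := by exact_mod_cast hp.out.two_le
  set S := ∑ k, m k with hSdef
  set c := S / p with hc
  set r := S % p with hr
  have hSr : S = p * c + r := by rw [hc, hr]; exact (Int.mul_ediv_add_emod S p).symm
  have hr0 : 0 ≤ r := Int.emod_nonneg _ (by omega)
  have hrp : r < p := Int.emod_lt_of_pos _ (by omega)
  have hr1 : 1 ≤ r := by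
    rcases hr0.lt_or_eq with h | h
    · omega
    · exact absurd ⟨c, by rw [hSr, ← h, add_zero]⟩ hS
  have hcard : ∑ _k : ZMod p, (1 : ℤ) = p := by
    rw [Finset.sum_const, Finset.card_univ, ZMod.card]
    simp
  have h1 : ∑ k, (m k - c) = r := by
    rw [Finset.sum_sub_distrib, ← hSdef]
    have : ∑ _k : ZMod p, c = p * c := by
      rw [Finset.sum_const, Finset.card_univ, ZMod.card, nsmul_eq_mul]
    rw [this, hSr]; ring
  have h2 : r ≤ ∑ k, (m k - c) ^ 2 := by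
    rw [← h1]
    exact Finset.sum_le_sum fun k _ => Int.le_self_sq _
  have h3 : ∑ k, (m k - c) ^ 2 = ∑ k, m k ^ 2 - 2 * c * S + p * c ^ 2 := by
    have : ∀ k, (m k - c) ^ 2 = m k ^ 2 - 2 * c * m k + c ^ 2 := fun k => by ring
    simp only [this]
    rw [Finset.sum_add_distrib, Finset.sum_sub_distrib, ← Finset.mul_sum, ← hSdef, Finset.sum_const,
      Finset.card_univ, ZMod.card, nsmul_eq_mul]
  have h4 : p * ∑ k, m k ^ 2 - S ^ 2 = p * ∑ k, (m k - c) ^ 2 - r ^ 2 := by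
    rw [h3, hSr]; ring
  have h5 : (p : ℤ) * r ≤ p * ∑ k, (m k - c) ^ 2 := by
    exact mul_le_mul_of_nonneg_left h2 (by omega)
  have h6 : 0 ≤ (r - 1) * (p - 1 - r) := mul_nonneg (by omega) (by omega)
  refine ⟨by rw [h4]; nlinarith, fun he => ?_⟩
  rw [h4] at he
  have h7 : (r - 1) * (p - 1 - r) = 0 := by nlinarith
  rcases mul_eq_zero.1 h7 with h | h
  · left
    exact ⟨c, by rw [hSr]; linarith⟩
  · right
    exact ⟨c + 1, by rw [hSr]; linarith⟩

/-- Parseval -/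
theorem parseval (m : ZMod p → ℤ) :
    ∑ a : ZMod p, ‖∑ k : ZMod p, (ZMod.stdAddChar (a * k) : ℂ) * (m k : ℂ)‖ ^ 2 = p * ∑ k, (m k : ℝ) ^ 2 := by
  have key : ∑ a : ZMod p, ((‖∑ k : ZMod p, (ZMod.stdAddChar (a * k) : ℂ) * (m k : ℂ)‖ : ℂ)) ^ 2 =
      p * ∑ k, (m k : ℂ) ^ 2 := by
    have h1 : ∀ a : ZMod p, ((‖∑ k : ZMod p, (ZMod.stdAddChar (a * k) : ℂ) * (m k : ℂ)‖ : ℂ)) ^ 2 =
        ∑ k : ZMod p, ∑ l : ZMod p, (ZMod.stdAddChar (a * (k - l)) : ℂ) * ((m k : ℂ) * (m l : ℂ)) := by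
      intro a
      rw [← Complex.mul_conj', map_sum, Finset.sum_mul_sum]
      refine Finset.sum_congr rfl fun k _ => Finset.sum_congr rfl fun l _ => ?_
      rw [map_mul (starRingEnd ℂ), map_intCast (starRingEnd ℂ), ← AddChar.map_neg_eq_conj, mul_sub, sub_eq_add_neg, AddChar.map_add_eq_mul]
      ring
    simp only [h1]
    rw [Finset.sum_comm]
    rw [Finset.mul_sum]
    refine Finset.sum_congr rfl fun k _ => ?_
    rw [Finset.sum_comm]
    rw [Finset.sum_eq_single k]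
    · rw [← Finset.sum_mul]
      have := AddChar.sum_mulShift (ψ := ZMod.stdAddChar) (k - k) (ZMod.isPrimitive_stdAddChar p)
      rw [this, if_pos (sub_self k), ZMod.card]
      ring
    · intro l _ hl
      rw [← Finset.sum_mul]
      have := AddChar.sum_mulShift (ψ := ZMod.stdAddChar) (k - l) (ZMod.isPrimitive_stdAddChar p)
      rw [this, if_neg (sub_ne_zero.2 (Ne.symm hl)), Nat.cast_zero, zero_mul]
    · intro h
      exact absurd (Finset.mem_univ _) h
  exact_mod_cast key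

theorem parseval' (m : ZMod p → ℤ) :
    ∑ a ∈ (univ : Finset (ZMod p)).erase 0, ‖∑ k : ZMod p, (ZMod.stdAddChar (a * k) : ℂ) * (m k : ℂ)‖ ^ 2 =
      ((p * ∑ k, m k ^ 2 - (∑ k, m k) ^ 2 : ℤ) : ℝ) := by
  have h1 := parseval m
  rw [← Finset.add_sum_erase _ _ (Finset.mem_univ (0 : ZMod p))] at h1
  have h2 : ‖∑ k : ZMod p, (ZMod.stdAddChar ((0 : ZMod p) * k) : ℂ) * (m k : ℂ)‖ ^ 2 = ((∑ k, m k : ℤ) : ℝ) ^ 2 := by
    simp only [zero_mul, AddChar.map_zero_eq_one, one_mul]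
    rw [← Int.cast_sum, Complex.norm_intCast, sq_abs]
  rw [h2] at h1
  push_cast
  push_cast at h1
  linarith

end Arith

end Cfsg.Agent.H991.KGV
end

-- part: H991/KGV/CountB
section
/-!
# KGV, task COUNT: the groups (helper991)
-/

set_option autoImplicit false
set_option linter.unusedSectionVars false

universe u

namespace Cfsg.Agent.H991.KGV

open Cfsg Finset
open scoped ComplexConjugate

section Grp

variable {X : Type u} [Group X] {V G : Subgroup X} [V.Normal] (hc : Subgroup.IsComplement' V G)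
include hc

theorem exists_vg (x : X) : ∃ v ∈ V, ∃ g ∈ G, v * g = x := by
  obtain ⟨⟨v, g⟩, h⟩ := hc.2 x
  exact ⟨v, v.2, g, g.2, h⟩

theorem vg_inj {v v' g g' : X} (hv : v ∈ V) (hv' : v' ∈ V) (hg : g ∈ G) (hg' : g' ∈ G) (h : v * g = v' * g') :
    v = v' ∧ g = g' := by
  have := hc.1 (a₁ := (⟨v, hv⟩, ⟨g, hg⟩)) (a₂ := (⟨v', hv'⟩, ⟨g', hg'⟩)) h
  exact ⟨congrArg (fun x => ((x.1 : V) : X)) this, congrArg (fun x => ((x.2 : G) : X)) this⟩

theorem commute_iff {v x : X} (hv : v ∈ V) (hx : x ∈ G) (g : G) :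
    v * x ∈ Subgroup.centralizer ({(g : X)} : Set X) ↔
      v ∈ Subgroup.centralizer ({(g : X)} : Set X) ∧ x ∈ Subgroup.centralizer ({(g : X)} : Set X) := by
  constructor
  · intro h
    rw [Subgroup.mem_centralizer_singleton_iff] at h
    have h1 : ((g : X) * v * (g : X)⁻¹) * (g * x * (g : X)⁻¹) = v * x := by
      have : ((g : X) * v * (g : X)⁻¹) * (g * x * (g : X)⁻¹) = g * (v * x) * (g : X)⁻¹ := by group
      rw [this, ← h]
      group
    obtain ⟨h2, h3⟩ := vg_inj hc (Subgroup.Normal.conj_mem ‹_› _ hv _) hv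
      (mul_mem (mul_mem g.2 hx) (inv_mem g.2)) hx h1
    rw [Subgroup.mem_centralizer_singleton_iff, Subgroup.mem_centralizer_singleton_iff]
    exact ⟨(mul_inv_eq_iff_eq_mul.1 h2).symm, (mul_inv_eq_iff_eq_mul.1 h3).symm⟩
  · rintro ⟨h1, h2⟩
    exact mul_mem h1 h2

/-- `|C_X(g)| = |C_V(g)| |C_G(g)|` -/
theorem card_centralizer [Finite X] (g : G) :
    Nat.card (Subgroup.centralizer ({(g : X)} : Set X)) =
      Nat.card ↥(V ⊓ Subgroup.centralizer ({(g : X)} : Set X)) * Nat.card (Subgroup.centralizer ({g} : Set G)) := by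
  have hmem : ∀ x : G, x ∈ Subgroup.centralizer ({g} : Set G) ↔ (x : X) ∈ Subgroup.centralizer ({(g : X)} : Set X) := by
    intro x
    rw [Subgroup.mem_centralizer_singleton_iff, Subgroup.mem_centralizer_singleton_iff]
    exact ⟨fun h => congrArg Subtype.val h, fun h => Subtype.ext h⟩
  rw [← Nat.card_prod]
  let f : ↥(V ⊓ Subgroup.centralizer ({(g : X)} : Set X)) × Subgroup.centralizer ({g} : Set G) →
      Subgroup.centralizer ({(g : X)} : Set X) := fun y => ⟨y.1 * y.2, mul_mem y.1.2.2 ((hmem _).1 y.2.2)⟩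
  have hf : Function.Bijective f := by
    constructor
    · rintro ⟨v, x⟩ ⟨v', x'⟩ h
      have h1 : (v : X) * ((x : G) : X) = (v' : X) * ((x' : G) : X) := congrArg Subtype.val h
      obtain ⟨h2, h3⟩ := vg_inj hc v.2.1 v'.2.1 x.1.2 x'.1.2 h1
      exact Prod.ext (Subtype.ext h2) (Subtype.ext (Subtype.ext h3))
    · rintro ⟨y, hy⟩
      obtain ⟨v, hv, x, hx, rfl⟩ := exists_vg hc y
      obtain ⟨h1, h2⟩ := (commute_iff hc hv hx g).1 hy
      exact ⟨(⟨v, hv, h1⟩, ⟨⟨x, hx⟩, (hmem _).2 h2⟩), rfl⟩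
  exact (Nat.card_congr (Equiv.ofBijective f hf)).symm

/-- fusion in `X` of elements of `G` -/
theorem isConj_iff' (g h : G) : IsConj (g : X) (h : X) ↔ IsConj g h := by
  constructor
  · intro hh
    obtain ⟨c, hcc⟩ := isConj_iff.1 hh
    obtain ⟨v, hv, x, hx, rfl⟩ := exists_vg hc c
    -- `v (x g x⁻¹) v⁻¹ = h`
    have h1 : (v * (x * g * x⁻¹ * v⁻¹ * (x * g * x⁻¹)⁻¹)) * (x * g * x⁻¹) = 1 * h := by
      rw [← hcc]; group
    have h2 : v * (x * g * x⁻¹ * v⁻¹ * (x * g * x⁻¹)⁻¹) ∈ V :=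
      mul_mem hv (Subgroup.Normal.conj_mem ‹_› _ (inv_mem hv) _)
    obtain ⟨-, h3⟩ := vg_inj hc h2 (one_mem V) (mul_mem (mul_mem hx g.2) (inv_mem hx)) h.2 h1
    exact isConj_iff.2 ⟨⟨x, hx⟩, Subtype.ext h3⟩
  · intro hh
    obtain ⟨c, hcc⟩ := isConj_iff.1 hh
    exact isConj_iff.2 ⟨c, congrArg Subtype.val hcc⟩

end Grp

section Count

variable {X : Type u} [Group X] [Finite X] {V G : Subgroup X} [V.Normal] (hc : Subgroup.IsComplement' V G)

/-- the inner product with `κ` -/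
noncomputable def aa [Fintype G] (κ : G → ℂ) (χ : X → ℂ) : ℂ := (Nat.card G : ℂ)⁻¹ * ∑ g : G, κ g * χ g

include hc in
/-- **The sum over all irreducible characters.** -/
theorem sum_aa [Fintype G] [Fintype (IrrCharacter X)] (κ : G → ℂ) (hκ : IsClassFunction G κ)
    (hn : ∀ g : G, ‖κ g‖ ^ 2 * (Nat.card ↥(V ⊓ Subgroup.centralizer ({(g : X)} : Set X)) : ℝ) = (Nat.card V : ℝ)) :
    ∑ χ : IrrCharacter X, ‖aa κ (χ : X → ℂ)‖ ^ 2 = (Nat.card V : ℝ) := by
  classical
  have := Fintype.ofFinite X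
  have hG : (Nat.card G : ℂ) ≠ 0 := by exact_mod_cast Nat.card_pos.ne'
  have key : ∑ χ : IrrCharacter X, ((‖aa κ (χ : X → ℂ)‖ : ℂ)) ^ 2 = (Nat.card V : ℂ) := by
    have h1 : ∀ χ : IrrCharacter X, ((‖aa κ (χ : X → ℂ)‖ : ℂ)) ^ 2 =
        ((Nat.card G : ℂ)⁻¹) ^ 2 * ∑ g : G, ∑ h : G, κ g * conj (κ h) * ((χ : X → ℂ) g * conj ((χ : X → ℂ) h)) := by
      intro χ
      rw [← Complex.mul_conj', aa, map_mul (starRingEnd ℂ), map_inv₀, map_natCast, map_sum]
      have : ∀ a b c : ℂ, a * b * (a * c) = a ^ 2 * (b * c) := fun a b c => by ring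
      rw [this, Finset.sum_mul_sum]
      congr 1
      refine Finset.sum_congr rfl fun g _ => Finset.sum_congr rfl fun h _ => ?_
      rw [map_mul (starRingEnd ℂ)]
      ring
    simp only [h1]
    rw [← Finset.mul_sum, Finset.sum_comm]
    have h2 : ∀ g : G, ∑ χ : IrrCharacter X, ∑ h : G, κ g * conj (κ h) * ((χ : X → ℂ) g * conj ((χ : X → ℂ) h)) =
        ∑ h : G, if IsConj g h then κ h * conj (κ h) *
          (Nat.card (Subgroup.centralizer ({(h : X)} : Set X)) : ℂ) else 0 := by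
      intro g
      rw [Finset.sum_comm]
      refine Finset.sum_congr rfl fun h _ => ?_
      rw [← Finset.mul_sum, S0145.sum_irr_mul_conj]
      by_cases hgh : IsConj g h
      · rw [if_pos hgh, if_pos ((isConj_iff' hc g h).2 hgh)]
        obtain ⟨c, rfl⟩ := isConj_iff.1 hgh
        rw [hκ g c]
      · rw [if_neg hgh, if_neg (fun h' => hgh ((isConj_iff' hc g h).1 h')), mul_zero]
    simp only [h2]
    rw [Finset.sum_comm]
    have h3 : ∀ h : G, (∑ g : G, if IsConj g h then κ h * conj (κ h) *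
          (Nat.card (Subgroup.centralizer ({(h : X)} : Set X)) : ℂ) else 0) = (Nat.card G : ℂ) * (Nat.card V : ℂ) := by
      intro h
      rw [← Finset.sum_filter, Finset.sum_const, nsmul_eq_mul, card_centralizer hc h]
      have h4 : (Nat.card (Subgroup.centralizer ({h} : Set G)) : ℂ) *
          ((Finset.univ.filter (fun x : G => IsConj x h)).card : ℂ) = (Nat.card G : ℂ) := by
        exact_mod_cast S0145.card_centralizer_mul_card_class h
      have h5 : ((‖κ h‖ : ℂ)) ^ 2 * (Nat.card ↥(V ⊓ Subgroup.centralizer ({(h : X)} : Set X)) : ℂ) =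
          (Nat.card V : ℂ) := by exact_mod_cast hn h
      rw [Complex.mul_conj', ← h5, ← h4]
      push_cast
      ring
    simp only [h3]
    rw [Finset.sum_const, nsmul_eq_mul, Finset.card_univ, ← Nat.card_eq_fintype_card]
    field_simp
  exact_mod_cast key

end Count

section Cong

variable {p : ℕ} {M : Ideal AlgInt}

/-- membership in `M` of a complex number -/
def InM (M : Ideal AlgInt) (x : ℂ) : Prop := ∃ α : AlgInt, α ∈ M ∧ (α : ℂ) = x

theorem InM.add {x y : ℂ} (hx : InM M x) (hy : InM M y) : InM M (x + y) := by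
  obtain ⟨a, ha, rfl⟩ := hx
  obtain ⟨b, hb, rfl⟩ := hy
  exact ⟨a + b, M.add_mem ha hb, rfl⟩

theorem InM.neg {x : ℂ} (hx : InM M x) : InM M (-x) := by
  obtain ⟨a, ha, rfl⟩ := hx
  exact ⟨-a, M.neg_mem ha, rfl⟩

theorem InM.sub {x y : ℂ} (hx : InM M x) (hy : InM M y) : InM M (x - y) := by
  rw [sub_eq_add_neg]
  exact hx.add hy.neg

theorem InM.zero : InM M 0 := ⟨0, M.zero_mem, rfl⟩

theorem InM.mul {x y : ℂ} (hx : InM M x) (hy : IsIntegral ℤ y) : InM M (x * y) := by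
  obtain ⟨a, ha, rfl⟩ := hx
  exact ⟨a * ⟨y, hy⟩, M.mul_mem_right _ ha, rfl⟩

theorem InM.sum {ι : Type*} (s : Finset ι) {f : ι → ℂ} (h : ∀ i ∈ s, InM M (f i)) : InM M (∑ i ∈ s, f i) := by
  classical
  induction s using Finset.induction_on with
  | empty => rw [Finset.sum_empty]; exact InM.zero
  | insert a s ha ih =>
    rw [Finset.sum_insert ha]
    exact (h a (Finset.mem_insert_self a s)).add (ih fun i hi => h i (Finset.mem_insert_of_mem hi))

theorem InM.int (hM : IsPModular p M) {n : ℤ} (h : InM M (n : ℂ)) : (p : ℤ) ∣ n := by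
  obtain ⟨a, ha, e⟩ := h
  have h1 : a = (n : AlgInt) := by
    apply Subtype.ext
    rw [e]
    push_cast
    rfl
  rw [h1] at ha
  exact (Blocks.LocalRing.intCast_mem_iff hM n).1 ha

/-- `1 - z` for a `p`-th root of unity -/
theorem one_sub_mem (hM : IsPModular p M) {z : ℂ} (hz : z ^ p = 1) : InM M (1 - z) := by
  have : Fact p.Prime := ⟨hM.1⟩
  have hmax := hM.2.1
  have hint : IsIntegral ℤ z := by
    refine IsIntegral.of_pow hM.1.pos ?_
    rw [hz]
    exact isIntegral_one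
  refine ⟨1 - ⟨z, hint⟩, ?_, rfl⟩
  rw [← Ideal.Quotient.eq_zero_iff_mem]
  have hchar : CharP (AlgInt ⧸ M) p := Blocks.Residue.charP_residue hM
  have h1 : (Ideal.Quotient.mk M (1 - ⟨z, hint⟩)) ^ p = 0 := by
    rw [map_sub, map_one, sub_pow_char, one_pow, ← map_pow]
    have h2 : (⟨z, hint⟩ : AlgInt) ^ p = 1 := Subtype.ext hz
    rw [h2, map_one, sub_self]
  have : M.IsPrime := hmax.isPrime
  exact pow_eq_zero_iff hM.1.ne_zero |>.1 h1

end Cong

section Main

open H644.KGV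

/-- Ito's theorem for a character -/
theorem degree_dvd {X : Type u} [Group X] [Finite X] (V : Subgroup X) [V.Normal] (hV : ∀ a ∈ V, ∀ b ∈ V, a * b = b * a)
    {χ : X → ℂ} (hχ : IsIrrCharacter X χ) {d : ℕ} (hd : χ 1 = d) : d ∣ V.index := by
  obtain ⟨n, ρ, hρ, rfl⟩ := hχ
  have h1 := Characters.Ito.finrank_dvd_index ρ V hV
  have h2 : (d : ℂ) = (n : ℂ) := by
    rw [← hd, Representation.char_one]
    simp
  have h3 : d = n := by exact_mod_cast h2
  rw [h3]
  simpa using h1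

theorem classInner_int {G : Type u} [Group G] [Fintype G] {θ ψ : G → ℂ} (hθ : IsGeneralizedCharacter G θ)
    (hψ : IsCharacter G ψ) : ∃ m : ℤ, classInner θ ψ = m := by
  obtain ⟨χ, χ', h1, h2, rfl⟩ := hθ
  obtain ⟨a, ha⟩ := Characters.Core.classInner_isNat h1 hψ
  obtain ⟨b, hb⟩ := Characters.Core.classInner_isNat h2 hψ
  refine ⟨a - b, ?_⟩
  rw [Characters.Core.classInner_sub_left, ha, hb]
  push_cast
  rfl

variable {p : ℕ} [hp : Fact p.Prime] {X : Type u} [Group X] [Finite X] {V G : Subgroup X} [V.Normal]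
  {κ : ZMod p → G → ℂ}

/-- the data of a character -/
theorem exists_m [Fintype G] (D : KData p V G κ) (χ : X → ℂ) (hχ : IsIrrCharacter X χ) {d : ℕ} (hd : χ 1 = d) :
    ∃ m : ZMod p → ℤ, (∀ a, a ≠ 0 → aa (κ a) χ = ∑ k : ZMod p, (ZMod.stdAddChar (a * k) : ℂ) * (m k : ℂ)) ∧
      (p : ℤ) ∣ (Nat.card G : ℤ) * (∑ k, m k) - d := by
  classical
  have hG : (Nat.card G : ℂ) ≠ 0 := by exact_mod_cast Nat.card_pos.ne'
  obtain ⟨θ, hθ, hκ⟩ := D.uint
  have hres : IsCharacter G (fun g : G => χ g) :=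
    Characters.Core.isCharacter_comp G.subtype (Characters.Core.isIrr_isCharacter hχ)
  have hcj : IsCharacter G (fun g : G => conj (χ g)) := Characters.Core.isCharacter_conj hres
  have hm : ∀ k, ∃ m : ℤ, (Nat.card G : ℂ)⁻¹ * ∑ g : G, θ k g * χ g = m := by
    intro k
    obtain ⟨m, hm⟩ := classInner_int (hθ k) hcj
    refine ⟨m, ?_⟩
    rw [← hm, classInner]
    simp only [Complex.conj_conj]
  choose m hm using hm
  have h1 : ∀ a, a ≠ 0 → aa (κ a) χ = ∑ k : ZMod p, (ZMod.stdAddChar (a * k) : ℂ) * (m k : ℂ) := by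
    intro a ha
    rw [aa]
    simp only [hκ a ha, Finset.sum_mul]
    rw [Finset.sum_comm, Finset.mul_sum]
    refine Finset.sum_congr rfl fun k _ => ?_
    rw [← hm k, Finset.mul_sum, Finset.mul_sum, Finset.mul_sum]
    refine Finset.sum_congr rfl fun g _ => ?_
    ring
  refine ⟨m, h1, ?_⟩
  obtain ⟨M, hM⟩ := Blocks.ExistsModular.exists_isPModular hp.out
  apply InM.int hM
  have hz : ∀ x : ZMod p, (ZMod.stdAddChar x : ℂ) ^ p = 1 := by
    intro x
    rw [← AddChar.map_nsmul_eq_pow, nsmul_eq_mul, ZMod.natCast_self, zero_mul, AddChar.map_zero_eq_one]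
  have hχint : ∀ g : X, IsIntegral ℤ (χ g) := fun g => by
    obtain ⟨n, ρ, -, rfl⟩ := hχ
    exact Characters.AverageRoots.isIntegral_character ρ g
  have h10 : (1 : ZMod p) ≠ 0 := one_ne_zero
  -- `|G| A - χ(1)`
  have h2 : InM M ((Nat.card G : ℂ) * aa (κ 1) χ - d) := by
    have e1 : (Nat.card G : ℂ) * aa (κ 1) χ = ∑ g : G, κ 1 g * χ g := by
      rw [aa, mul_inv_cancel_left₀ hG]
    rw [e1, ← Finset.add_sum_erase _ _ (Finset.mem_univ (1 : G)), D.one 1 h10, one_mul]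
    have e2 : χ ((1 : G) : X) = d := hd
    rw [e2, add_sub_cancel_left]
    refine InM.sum _ fun g hg => ?_
    obtain ⟨y, hy, e⟩ := D.ideal 1 h10 g (Finset.ne_of_mem_erase hg)
    rw [e, mul_assoc]
    exact (one_sub_mem hM (hz 1)).mul (hy.mul (hχint g))
  have h3 : InM M (∑ k : ZMod p, (1 - (ZMod.stdAddChar (1 * k) : ℂ)) * (m k : ℂ)) := by
    refine InM.sum _ fun k _ => ?_
    exact (one_sub_mem hM (hz _)).mul (by simpa using (isIntegral_algebraMap (R := ℤ) (x := m k) (A := ℂ)))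
  have h4 := h2.add (h3.mul (y := (Nat.card G : ℂ))
    (by simpa using (isIntegral_algebraMap (R := ℤ) (x := (Nat.card G : ℤ)) (A := ℂ))))
  rw [h1 1 h10] at h4
  convert h4 using 1
  push_cast
  simp only [sub_mul, one_mul, Finset.sum_sub_distrib]
  ring

/-- **The final count.** -/
theorem count : Count.{u} := by
  intro p hp X _ _ V G _ hVp hpi hcen hc κ D
  classical
  have := Fintype.ofFinite G
  have := Fintype.ofFinite X
  have hfin : Finite (IrrCharacter X) := Characters.Core.finite_irr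
  have := Fintype.ofFinite (IrrCharacter X)
  have hab : ∀ a ∈ V, ∀ b ∈ V, a * b = b * a := by
    intro a ha b hb
    have h1 : a ∈ Subgroup.centralizer (V : Set X) := by rw [hcen]; exact ha
    exact ((Subgroup.mem_centralizer_iff.1 h1) b hb).symm
  have hdeg : ∀ χ : IrrCharacter X, ∃ d : ℕ, (χ : X → ℂ) 1 = d := fun χ => by
    obtain ⟨d, -, h⟩ := Characters.Core.isIrr_apply_one χ.2
    exact ⟨d, h⟩
  choose d hd using hdeg
  choose m hm hmd using fun χ : IrrCharacter X => exists_m D (χ : X → ℂ) χ.2 (hd χ)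
  have hS : ∀ χ, ¬ (p : ℤ) ∣ ∑ k, m χ k := by
    intro χ h
    have h1 := degree_dvd V hab χ.2 (hd χ)
    have h2 : (p : ℤ) ∣ d χ := by
      have h3 := dvd_sub (h.mul_left (Nat.card G : ℤ)) (hmd χ)
      rwa [sub_sub_cancel] at h3
    exact hpi ((Int.natCast_dvd_natCast.1 h2).trans h1)
  have hp1 : (0 : ℝ) < (p : ℝ) - 1 := by
    have : (1 : ℝ) < p := by exact_mod_cast hp.out.one_lt
    linarith
  -- the sum over the characters
  have hcls : ∀ a, a ≠ 0 → IsClassFunction G (κ a) := by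
    intro a ha g h
    obtain ⟨θ, hθ, hκ⟩ := D.uint
    rw [hκ a ha, hκ a ha]
    refine Finset.sum_congr rfl fun k _ => ?_
    congr 1
    obtain ⟨ψ, ψ', h1, h2, e⟩ := hθ k
    rw [e, Pi.sub_apply, Pi.sub_apply, Characters.Core.isCharacter_isClassFunction h1,
      Characters.Core.isCharacter_isClassFunction h2]
  have hsum : ∑ χ : IrrCharacter X, ∑ a ∈ (univ : Finset (ZMod p)).erase 0, ‖aa (κ a) (χ : X → ℂ)‖ ^ 2 =
      ((p : ℝ) - 1) * Nat.card V := by
    rw [Finset.sum_comm]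
    rw [Finset.sum_congr rfl fun a ha => sum_aa hc (κ a) (hcls a (Finset.ne_of_mem_erase ha))
      (D.norm a (Finset.ne_of_mem_erase ha))]
    rw [Finset.sum_const, Finset.card_erase_of_mem (Finset.mem_univ _), Finset.card_univ, ZMod.card, nsmul_eq_mul,
      Nat.cast_sub hp.out.one_le, Nat.cast_one]
  have hval : ∀ χ : IrrCharacter X, ∑ a ∈ (univ : Finset (ZMod p)).erase 0, ‖aa (κ a) (χ : X → ℂ)‖ ^ 2 =
      ((p * ∑ k, m χ k ^ 2 - (∑ k, m χ k) ^ 2 : ℤ) : ℝ) := by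
    intro χ
    rw [← parseval']
    refine Finset.sum_congr rfl fun a ha => ?_
    rw [hm χ a (Finset.ne_of_mem_erase ha)]
  have hge : ∀ χ : IrrCharacter X, (p : ℝ) - 1 ≤
      ∑ a ∈ (univ : Finset (ZMod p)).erase 0, ‖aa (κ a) (χ : X → ℂ)‖ ^ 2 := by
    intro χ
    rw [hval]
    exact_mod_cast (arith (m χ) (hS χ)).1
  have hk : Nat.card (ConjClasses X) = Fintype.card (IrrCharacter X) := by
    rw [← Characters.Core.card_irr, Nat.card_eq_fintype_card]
  have h1 : (Fintype.card (IrrCharacter X) : ℝ) * ((p : ℝ) - 1) ≤ ((p : ℝ) - 1) * Nat.card V := by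
    rw [← hsum, ← nsmul_eq_mul, ← Finset.card_univ, ← Finset.sum_const]
    exact Finset.sum_le_sum fun χ _ => hge χ
  refine ⟨?_, ?_⟩
  · rw [hk]
    rw [mul_comm] at h1
    exact_mod_cast le_of_mul_le_mul_left h1 hp1
  · intro heq χ hχ e he
    have h2 : ∑ χ : IrrCharacter X, ∑ a ∈ (univ : Finset (ZMod p)).erase 0, ‖aa (κ a) (χ : X → ℂ)‖ ^ 2 =
        ∑ _χ : IrrCharacter X, ((p : ℝ) - 1) := by
      rw [hsum, Finset.sum_const, Finset.card_univ, ← hk, heq, nsmul_eq_mul, mul_comm]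
    have h3 := (Finset.sum_eq_sum_iff_of_le (fun χ _ => hge χ)).1 h2.symm ⟨χ, hχ⟩ (Finset.mem_univ _)
    rw [hval] at h3
    have h4 : (p * ∑ k, m ⟨χ, hχ⟩ k ^ 2 - (∑ k, m ⟨χ, hχ⟩ k) ^ 2 : ℤ) = (p : ℤ) - 1 := by
      exact_mod_cast h3.symm
    have h5 := (arith _ (hS ⟨χ, hχ⟩)).2 h4
    have h6 := hmd ⟨χ, hχ⟩
    have h7 : d ⟨χ, hχ⟩ = e := by
      have : ((d ⟨χ, hχ⟩ : ℕ) : ℂ) = e := by rw [← hd ⟨χ, hχ⟩, ← he]
      exact_mod_cast this
    rw [h7] at h6
    rcases h5 with h5 | h5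
    · left
      rw [← Int.natCast_modEq_iff]
      refine (Int.modEq_iff_dvd.2 ?_)
      have h8 := dvd_sub h6 (h5.mul_left (Nat.card G : ℤ))
      have h9 : (Nat.card G : ℤ) * (∑ k, m ⟨χ, hχ⟩ k) - e - (Nat.card G : ℤ) * ((∑ k, m ⟨χ, hχ⟩ k) - 1) =
        (Nat.card G : ℤ) - e := by ring
      rwa [h9] at h8
    · right
      rw [← Int.natCast_modEq_iff]
      refine (Int.modEq_iff_dvd.2 ?_)
      have h8 := dvd_sub h6 (h5.mul_left (Nat.card G : ℤ))
      have h9 : (Nat.card G : ℤ) * (∑ k, m ⟨χ, hχ⟩ k) - e - (Nat.card G : ℤ) * ((∑ k, m ⟨χ, hχ⟩ k) + 1) =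
        ((0 : ℕ) : ℤ) - ((e + Nat.card G : ℕ) : ℤ) := by push_cast; ring
      rwa [h9] at h8

end Main

end Cfsg.Agent.H991.KGV
end
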